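import Cfsg.Agent.Frobenius.Complement
import Cfsg.Agent.Chars.TI
import Cfsg.Agent.Chars.Count
import Cfsg.Agent.Chars.Values
import Cfsg.Agent.Coprime.Sylow
import Cfsg.Agent.Thompson.FixedPointFree

/-!
Frobenius' theorem: the Frobenius kernel is a normal subgroup, and it is nilpotent.
-/

set_option linter.style.haveILetI false
set_option linter.unusedSectionVars false

namespace Cfsg.Lib.Frobenius

open Subgroup Cfsg.Lib.Coprime Cfsg.Lib.Chars
open scoped Pointwise ComplexConjugate

universe u

variable {G : Type u} [Group G] [Finite G] {H : Subgroup G}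

theorem exists_irr_extension (hH : IsFrobeniusComplement H) (φ : Cfsg.IrrCharacter H) :
    ∃ χ : G → ℂ, Cfsg.IsIrrCharacter G χ ∧ (∀ h : H, χ h = (φ : H → ℂ) h) ∧
      ∀ x ∈ frobeniusKernel H, χ x = χ 1 := by
  classical
  haveI := Fintype.ofFinite G
  haveI := Fintype.ofFinite H
  by_cases hφ : (φ : H → ℂ) = fun _ => 1
  · exact ⟨fun _ => 1, isIrrCharacter_one, fun h => by rw [hφ], fun _ _ => rfl⟩
  set d : ℕ := deg (φ : H → ℂ) with hd
  have hd1 : (φ : H → ℂ) 1 = d := irr_apply_one_eq_deg φ
  let θ : H → ℂ := (d : ℂ) • (fun _ => (1 : ℂ)) - (φ : H → ℂ)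
  let I : G → ℂ := Cfsg.indFun H θ
  let χ : G → ℂ := (d : ℂ) • (fun _ => (1 : ℂ)) - I
  have hθ1 : θ 1 = 0 := by simp [θ, hd1]
  have hθc : Cfsg.IsClassFunction H θ := fun g h => by simp [θ, isClassFunction_irr φ g h]
  have hTI : ∀ g : G, g ∉ H → ∀ t ∈ (H : Set G), g * t * g⁻¹ ∈ (H : Set G) → t = 1 := by
    intro g hg t ht hgt
    by_contra h1
    refine hg ?_
    have h1' : t ∈ conjMap 1 H := by rwa [conjMap_one]
    have h2' : t ∈ conjMap g⁻¹ H := by rw [mem_conjMap]; simpa using hgt
    simpa using inter_trivial hH h1' h2' h1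
  have hI : ∀ t : H, I t = θ t := by
    intro t
    by_cases h1 : t = 1
    · subst h1
      show Cfsg.indFun H θ 1 = _
      rw [indFun_one, hθ1, mul_zero]
    · exact indFun_TI_apply' H (H : Set G) hTI hθc (fun x hx => absurd x.2 hx) t t.2 h1
  have hres : ∀ h : H, χ h = (φ : H → ℂ) h := fun h => by
    show (d : ℂ) * 1 - I h = _
    rw [hI]; simp [θ]
  have hχ1 : χ 1 = d := by
    have h := hres 1
    rwa [OneMemClass.coe_one, hd1] at h
  have honec : Cfsg.IsClassFunction G (fun _ => (1 : ℂ)) := fun _ _ => rfl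
  have hrr : Cfsg.classInner (φ : H → ℂ) φ = 1 := classInner_irr_self φ
  have h11 : Cfsg.classInner (fun _ : H => (1 : ℂ)) (fun _ => 1) = 1 :=
    classInner_irr_self (principal H)
  have h1φ : Cfsg.classInner (fun _ : H => (1 : ℂ)) (φ : H → ℂ) = 0 :=
    classInner_irr_ne (χ := principal H) (ψ := φ) fun h => hφ (congrArg Subtype.val h).symm
  have hφ1 : Cfsg.classInner (φ : H → ℂ) (fun _ : H => (1 : ℂ)) = 0 :=
    classInner_irr_ne (χ := φ) (ψ := principal H) fun h => hφ (congrArg Subtype.val h)
  have hG11 : Cfsg.classInner (fun _ : G => (1 : ℂ)) (fun _ => 1) = 1 :=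
    classInner_irr_self (principal G)
  have hθ1' : Cfsg.classInner θ (fun _ : H => (1 : ℂ)) = (d : ℂ) := by
    simp [θ, classInner_sub_left, classInner_smul_left, h11, hφ1]
  have hI1 : Cfsg.classInner I (fun _ => 1) = (d : ℂ) := by
    show Cfsg.classInner (Cfsg.indFun H θ) (fun _ => 1) = _
    rw [frobenius_reciprocity H θ honec]
    exact hθ1'
  have h1I : Cfsg.classInner (fun _ => 1) I = (d : ℂ) := by
    rw [← classInner_conj_symm, hI1]; simp
  have hII : Cfsg.classInner I I = (d : ℂ) * d + 1 := by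
    show Cfsg.classInner (Cfsg.indFun H θ) I = _
    rw [frobenius_reciprocity H θ (isClassFunction_indFun H θ)]
    rw [show (fun h : H => I h) = θ from funext hI]
    simp [θ, classInner_sub_left, classInner_sub_right, classInner_smul_left,
      classInner_smul_right, h11, hφ1, h1φ, hrr]
  have hnorm : Cfsg.classInner χ χ = 1 := by
    simp [χ, classInner_sub_left, classInner_sub_right, classInner_smul_left,
      classInner_smul_right, hG11, hI1, h1I, hII]
  have hgen : Cfsg.IsGeneralizedCharacter G χ := by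
    refine IsGeneralizedCharacter.sub ?_ (IsGeneralizedCharacter.indFun ?_)
    · rw [Nat.cast_smul_eq_nsmul]
      exact IsCharacter.isGeneralized (IsCharacter.nsmul isCharacter_one d)
    · refine IsGeneralizedCharacter.sub ?_ (IsCharacter.isGeneralized (isCharacter_of_irr φ.2))
      rw [Nat.cast_smul_eq_nsmul]
      exact IsCharacter.isGeneralized (IsCharacter.nsmul isCharacter_one d)
  refine ⟨χ, (isIrr_or_neg_of_norm_one hgen hnorm).resolve_right fun hneg => ?_, hres,
    fun x hx => ?_⟩
  · have h := IsCharacter.apply_one_eq_deg (isCharacter_of_irr hneg)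
    rw [Pi.neg_apply, hχ1] at h
    have hpos := deg_irr_pos φ
    have h' : ((d + deg (-χ) : ℕ) : ℂ) = ((0 : ℕ) : ℂ) := by
      rw [Nat.cast_add, ← h]; simp
    have := Nat.cast_injective h'
    omega
  · rcases hx with rfl | hx
    · rfl
    · rw [hχ1]
      show (d : ℂ) * 1 - I x = _
      have h0 : I x = 0 := indFun_eq_zero_of_forall H θ x fun y hy => hx y (by
        show x ∈ conjMap y H
        rw [mem_conjMap]; exact hy)
      rw [h0, mul_one, sub_zero]

/-- **Frobenius' theorem.** -/
theorem exists_kernel (hH : IsFrobeniusComplement H) :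
    ∃ N : Subgroup G, (N : Set G) = frobeniusKernel H ∧ N.Normal ∧ N.IsComplement' H := by
  classical
  haveI := Fintype.ofFinite G
  let N : Subgroup G := ⨅ (χ : Cfsg.IrrCharacter G)
    (_ : ∀ x ∈ frobeniusKernel H, (χ : G → ℂ) x = (χ : G → ℂ) 1),
      kerSubgroup (χ : G → ℂ) (isCharacter_of_irr χ.2)
  have hNn : N.Normal := Subgroup.normal_iInf_normal fun χ => Subgroup.normal_iInf_normal fun _ =>
    kerSubgroup_normal _
  have hsub : frobeniusKernel H ⊆ (N : Set G) := fun x hx => by
    simp only [N, coe_iInf, Set.mem_iInter]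
    exact fun χ hχ => hχ x hx
  have hinf : N ⊓ H = ⊥ := by
    rw [eq_bot_iff_forall]
    rintro x ⟨hxN, hxH⟩
    have hconj : IsConj (⟨x, hxH⟩ : H) 1 := by
      rw [isConj_iff_forall_irr]
      intro φ
      obtain ⟨χ, hχ, hres, hker⟩ := exists_irr_extension hH φ
      have hx' : x ∈ kerSubgroup χ (isCharacter_of_irr hχ) := by
        have h' : x ∈ N := hxN
        simp only [N, Subgroup.mem_iInf] at h'
        exact h' ⟨χ, hχ⟩ hker
      rw [mem_kerSubgroup] at hx'
      rw [← hres, ← hres]
      exact hx'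
    obtain ⟨c, hc⟩ := isConj_iff.mp hconj
    rw [mul_inv_eq_one, mul_eq_left] at hc
    exact congrArg Subtype.val hc
  have hcard := card_kernel hH
  have hle : H.index ≤ Nat.card N := hcard ▸ Nat.card_mono (Set.toFinite _) hsub
  have h2 : Nat.card ↥(N ⊔ H) * 1 = Nat.card N * Nat.card H := by
    have := card_sup_mul_card_inf (N := N) (H := H) le_normalizer_of_normal
    rwa [hinf, card_bot] at this
  have hNc : Nat.card N = H.index := by
    refine le_antisymm (Nat.le_of_mul_le_mul_right ?_ (Nat.card_pos (α := H))) hle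
    rw [← h2, mul_one, mul_comm H.index, H.card_mul_index]
    exact card_le_card_group _
  have hc : N.IsComplement' H := by
    refine isComplement'_of_card_mul_and_disjoint ?_ (disjoint_iff.mpr hinf)
    rw [hNc, mul_comm, H.card_mul_index]
  exact ⟨N, normal_eq_kernel hH hc, hNn, hc⟩

/-- A Frobenius kernel is nilpotent. -/
theorem isNilpotent_kernel (hH : IsFrobeniusComplement H) {N : Subgroup G} [N.Normal]
    (hN : (N : Set G) = frobeniusKernel H) : Group.IsNilpotent N := by
  obtain ⟨q, hq, hqd⟩ := Nat.exists_prime_and_dvd (fun h : Nat.card H = 1 => hH.1 (card_eq_one.mp h))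
  haveI := Fact.mk hq
  obtain ⟨⟨h, hh⟩, hho⟩ := exists_prime_orderOf_dvd_card' (G := H) q hqd
  rw [Subgroup.orderOf_mk] at hho
  have h1 : h ≠ 1 := fun h0 => hq.one_lt.ne (by rw [← hho, h0, orderOf_one])
  refine Cfsg.Lib.Thompson.isNilpotent_of_fpf (G := N)
    (MulAut.conjNormal (H := N) h).toMonoidHom (fun x hx => ?_) hq (funext fun x => ?_)
  · have hc : h * (x : G) * h⁻¹ = x := congrArg Subtype.val hx
    rw [mul_inv_eq_iff_eq_mul] at hc
    have hxH : (x : G) ∈ H := mem_of_commute hH hh h1 hc.symm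
    refine Subtype.ext (eq_one_of_mem_kernel (g := 1) (H := H) ?_ (by rwa [conjMap_one]))
    rw [← hN]
    exact x.2
  · have key : ∀ n : ℕ, ((((MulAut.conjNormal (H := N) h).toMonoidHom : N → N)^[n] x : N) : G) =
        h ^ n * x * (h ^ n)⁻¹ := by
      intro n
      induction n with
      | zero => simp
      | succ n ih =>
        rw [Function.iterate_succ_apply', MulEquiv.coe_toMonoidHom, MulAut.conjNormal_apply]
        rw [MulEquiv.coe_toMonoidHom] at ih
        rw [ih, pow_succ']
        group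
    refine Subtype.ext ?_
    rw [key, ← hho, pow_orderOf_eq_one]
    simp

end Cfsg.Lib.Frobenius
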