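import Cfsg.Agent.PGroups.Bounds
import Cfsg.Agent.Coprime.Generation
import Mathlib.GroupTheory.SpecificGroups.Quaternion
import Mathlib.FieldTheory.Finite.Basic

/-!
A `p`-group with a unique subgroup of order `p` is cyclic or generalised quaternion.
-/

set_option linter.style.haveILetI false
set_option linter.unusedSectionVars false

namespace Cfsg.Lib.UniqueSub

open Subgroup

variable {G : Type*} [Group G] {p : ℕ} [hp : Fact p.Prime]

theorem geom_sum_sq_congr {k : ℤ} (hk : (p : ℤ) ∣ k - 1) (hodd : p ≠ 2) :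
    ((p : ℤ) * p) ∣ (∑ i ∈ Finset.range p, k ^ i) - p := by
  obtain ⟨t, ht⟩ := hk
  have hi : ∀ i : ℕ, ((p : ℤ) * p) ∣ k ^ i - (1 + (i : ℤ) * (p * t)) := fun i => by
    induction i with
    | zero => simp
    | succ i ih =>
      obtain ⟨u, hu⟩ := ih
      have hk' : k = 1 + p * t := by linarith
      refine ⟨u * k + i * t * t, ?_⟩
      rw [pow_succ]
      have : k ^ i = (p : ℤ) * p * u + (1 + (i : ℤ) * (p * t)) := by linarith
      rw [this, hk']; push_cast; ring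
  have h1 := Finset.dvd_sum (s := Finset.range p) fun i _ => hi i
  rw [Finset.sum_sub_distrib, Finset.sum_add_distrib] at h1
  simp only [Finset.sum_const, Finset.card_range, nsmul_eq_mul, mul_one, ← Finset.sum_mul] at h1
  obtain ⟨m, hm⟩ := hp.out.odd_of_ne_two hodd
  have h2 : ((∑ i ∈ Finset.range p, i : ℕ) : ℤ) = p * m := by
    have h3 := Finset.sum_range_id_mul_two p
    have : (∑ i ∈ Finset.range p, i) * 2 = (p * m) * 2 := by
      rw [h3]
      have : p - 1 = 2 * m := by omega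
      rw [this]; ring
    exact_mod_cast mul_right_cancel₀ two_ne_zero this
  push_cast at h2
  rw [h2] at h1
  obtain ⟨c, hc⟩ := h1
  exact ⟨c + m * t, by linear_combination hc⟩

variable [Finite G]

/-- The action of an element of order `p` modulo a cyclic maximal abelian normal subgroup. -/
theorem aux (huniq : ∀ x y : G, orderOf x = p → orderOf y = p → y ∈ zpowers x) {a : G} {n : ℕ}
    (ho : orderOf a = p ^ n) (hn : n ≠ 0) (hC : centralizer (zpowers a : Set G) = zpowers a)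
    {g : G} (hg : g ∉ zpowers a) (hgp : g ^ p ∈ zpowers a) {k : ℤ} (hk : g * a * g⁻¹ = a ^ k) :
    p = 2 ∧ 2 ≤ n ∧ g * a * g⁻¹ = a⁻¹ ∧ g * g = a ^ (2 ^ (n - 1)) := by
  have hone : ∀ z : ℤ, a ^ z = 1 ↔ ((p : ℤ) ^ n) ∣ z := fun z => by
    rw [← orderOf_dvd_iff_zpow_eq_one, ho, Nat.cast_pow]
  have hpZ : Prime (p : ℤ) := Nat.prime_iff_prime_int.mp hp.out
  have hconj : ∀ z : ℤ, g * a ^ z * g⁻¹ = a ^ (k * z) := fun z => by
    rw [← conj_zpow, hk, zpow_mul]
  have hk1 : ¬ ((p : ℤ) ^ n) ∣ k - 1 := fun h => hg (hC.le (mem_centralizer_iff.mpr fun y hy => by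
    obtain ⟨z, rfl⟩ := mem_zpowers_iff.mp hy
    have h2 : a ^ (k * z) = a ^ z := by
      rw [← mul_inv_eq_one, ← zpow_neg, ← zpow_add, hone]
      obtain ⟨c, hc⟩ := h
      exact ⟨c * z, by linear_combination z * hc⟩
    have h3 := (hconj z).trans h2
    rw [mul_inv_eq_iff_eq_mul] at h3
    exact h3.symm))
  obtain ⟨i, hi⟩ := mem_zpowers_iff.mp hgp
  have hpowj : ∀ (x : ℤ) (j : ℕ),
      (a ^ x * g) ^ j = a ^ (x * ∑ l ∈ Finset.range j, k ^ l) * g ^ j := fun x j => by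
    induction j with
    | zero => simp
    | succ j ih =>
      rw [pow_succ', ih, geom_sum_succ, pow_succ' g]
      rw [show a ^ x * g * (a ^ (x * ∑ l ∈ Finset.range j, k ^ l) * g ^ j) =
        a ^ x * (g * a ^ (x * ∑ l ∈ Finset.range j, k ^ l) * g⁻¹) * (g * g ^ j) by group,
        hconj, ← zpow_add]
      congr 2
      ring
  have hiter : ∀ j : ℕ, g ^ j * a * (g ^ j)⁻¹ = a ^ (k ^ j) := fun j => by
    induction j with
    | zero => simp
    | succ j ih =>
      calc g ^ (j + 1) * a * (g ^ (j + 1))⁻¹ = g * (g ^ j * a * (g ^ j)⁻¹) * g⁻¹ := by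
            rw [pow_succ']; group
        _ = a ^ (k ^ (j + 1)) := by rw [ih, hconj, pow_succ']
  have hkp : ((p : ℤ) ^ n) ∣ k ^ p - 1 := by
    rw [← hone, zpow_sub, zpow_one, ← hiter p, ← hi]
    rw [mul_inv_eq_one]
    group
  have hkmod : (p : ℤ) ∣ k - 1 := by
    have h1 : (p : ℤ) ∣ k ^ p - 1 := (dvd_pow_self _ hn).trans hkp
    rw [← ZMod.intCast_zmod_eq_zero_iff_dvd] at h1 ⊢
    push_cast at h1 ⊢
    rwa [ZMod.pow_card] at h1
  have hi1 : ((p : ℤ) ^ n) ∣ i * (k - 1) := by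
    have h := hconj i
    rw [hi, show g * g ^ p * g⁻¹ = g ^ p by group, ← hi] at h
    rw [show i * (k - 1) = k * i - i by ring, ← hone, zpow_sub, ← h, mul_inv_cancel]
  have hpi : (p : ℤ) ∣ i := by
    by_contra h
    exact hk1 ((((hpZ.coprime_iff_not_dvd).mpr h).pow_left).dvd_of_dvd_mul_left hi1)
  have hno : ∀ x : ℤ, ¬ ((p : ℤ) ^ n) ∣ x * (∑ l ∈ Finset.range p, k ^ l) + i := fun x hx => by
    have hy : (a ^ x * g) ^ p = 1 := by rw [hpowj, ← hi, ← zpow_add, hone]; exact hx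
    have hyA : a ^ x * g ∉ zpowers a := fun h => hg (by
      have := mul_mem (inv_mem (zpow_mem (mem_zpowers a) x)) h
      rwa [inv_mul_cancel_left] at this)
    have hyo : orderOf (a ^ x * g) = p := orderOf_eq_prime hy fun h => hyA (h ▸ one_mem _)
    have hzo : orderOf (a ^ (p ^ (n - 1))) = p := by
      rw [orderOf_pow_of_dvd (pow_ne_zero _ hp.out.ne_zero) (ho ▸ pow_dvd_pow p (Nat.sub_le n 1)),
        ho, Nat.pow_div (Nat.sub_le n 1) hp.out.pos, show n - (n - 1) = 1 by omega, pow_one]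
    exact hyA (zpowers_le.mpr (pow_mem (mem_zpowers a) _) (huniq _ _ hzo hyo))
  obtain ⟨i', hi'⟩ := hpi
  have hsolve : ∀ u : ℤ, (∑ l ∈ Finset.range p, k ^ l) = p * u → (p : ℤ) ∣ u := fun u hu => by
    by_contra h
    obtain ⟨c, d, hcd⟩ := ((hpZ.coprime_iff_not_dvd).mpr h).pow_left (m := n)
    exact hno (-i' * d) ⟨(p : ℤ) * i' * c, by rw [hu, hi']; linear_combination (-(p : ℤ) * i') * hcd⟩
  by_cases h2 : p = 2
  swap
  · exfalso
    obtain ⟨c, hc⟩ := geom_sum_sq_congr hkmod h2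
    have := hsolve (1 + p * c) (by linear_combination hc)
    obtain ⟨e, he⟩ := this
    exact hpZ.not_dvd_one ⟨e - c, by linear_combination he⟩
  subst h2
  simp only [Finset.sum_range_succ, Finset.sum_range_zero, zero_add, pow_zero, pow_one] at hsolve hno
  obtain ⟨t, ht⟩ := hkmod
  push_cast at ht hsolve hno hi' hi1 hkp hone hk1
  obtain ⟨s, hs⟩ := hsolve (1 + t) (by linear_combination ht)
  obtain ⟨m, rfl⟩ : ∃ m, n = m + 1 := ⟨n - 1, by omega⟩
  have hkv : k = 4 * s - 1 := by linear_combination ht + 2 * hs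
  have hu : ∀ z : ℤ, (2 : ℤ) ^ (m + 1) ∣ z * (k - 1) → (2 : ℤ) ^ m ∣ z := fun z hz => by
    rw [show z * (k - 1) = 2 * (z * (2 * s - 1)) by rw [hkv]; ring, pow_succ', ] at hz
    have hz' := (mul_dvd_mul_iff_left (by norm_num : (2 : ℤ) ≠ 0)).mp hz
    have hcop : IsCoprime ((2 : ℤ) ^ m) (2 * s - 1) :=
      (show IsCoprime (2 : ℤ) (2 * s - 1) from ⟨s, -1, by ring⟩).pow_left
    exact hcop.dvd_of_dvd_mul_right hz'
  obtain ⟨i'', hi''⟩ := hu i hi1
  have hkpos : (2 : ℤ) ^ m ∣ k + 1 := hu (k + 1) (by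
    have h := hkp; rwa [show k ^ 2 - 1 = (k + 1) * (k - 1) by ring] at h)
  have hm : m ≠ 0 := by
    rintro rfl
    exact hk1 ⟨t, by linear_combination ht⟩
  obtain ⟨w, hw⟩ := hkpos
  have hw2 : (2 : ℤ) ∣ w := by
    rcases Int.even_or_odd w with h | h
    · exact h.two_dvd
    · exfalso
      obtain ⟨v, hv⟩ := h
      exact hno (-i'') ⟨-i'' * v, by
        rw [hi'', show (1 : ℤ) + k = 2 ^ m * w by linear_combination hw, hv]; ring⟩
  have hinv : g * a * g⁻¹ = a⁻¹ := by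
    rw [hk, ← zpow_neg_one, ← mul_inv_eq_one, ← zpow_sub, hone]
    obtain ⟨e, he⟩ := hw2
    exact ⟨e, by rw [pow_succ]; linear_combination hw + 2 ^ m * he⟩
  refine ⟨rfl, by omega, hinv, ?_⟩
  rcases Int.even_or_odd i'' with h | h
  · exfalso
    obtain ⟨e, he⟩ := h
    exact hno 0 ⟨e, by rw [hi'', he]; ring⟩
  · obtain ⟨e, he⟩ := h
    rw [← pow_two, ← hi, ← zpow_natCast a, ← mul_inv_eq_one, ← zpow_sub, hone]
    exact ⟨e, by rw [Nat.add_sub_cancel, hi'', he]; push_cast; ring⟩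

/-- A `p`-group with a unique subgroup of order `p` is cyclic or generalised quaternion. -/
theorem isCyclic_or_quaternion (hG : IsPGroup p G)
    (huniq : ∀ x y : G, orderOf x = p → orderOf y = p → y ∈ zpowers x) :
    IsCyclic G ∨ (p = 2 ∧ ∃ n : ℕ, Nonempty (G ≃* QuaternionGroup (2 ^ n))) := by
  classical
  by_cases hnt : Nontrivial G
  swap
  · haveI := not_nontrivial_iff_subsingleton.mp hnt
    exact Or.inl inferInstance
  obtain ⟨A, ⟨hAn, hAc⟩, hAmax⟩ := WellFounded.has_min (wellFounded_gt (α := Subgroup G))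
    {A : Subgroup G | A.Normal ∧ IsMulCommutative A}
    ⟨⊥, inferInstance, ⟨⟨fun x y => Subsingleton.elim _ _⟩⟩⟩
  haveI := hAn
  haveI := hAc
  have hC : centralizer (A : Set G) = A :=
    Cfsg.Lib.PGroups.centralizer_eq_self_of_maximal_normal_abelian hG A hAc fun B hBn hBc hAB =>
      (eq_or_lt_of_le hAB).elim Eq.symm fun h => absurd h (hAmax B ⟨hBn, hBc⟩)
  have hcycA : IsCyclic A := by
    by_contra hA
    letI : CommGroup A := { (inferInstance : Group A) with mul_comm := mul_comm' }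
    obtain ⟨q, x, y, hq, hx, hy, hxy⟩ := Cfsg.Lib.Coprime.exists_root_pair_of_not_cyclic hA
    have hqp : q = p := by
      obtain ⟨j, hj⟩ := IsPGroup.iff_orderOf.mp hG (x : G)
      rw [Subgroup.orderOf_coe, hx] at hj
      exact (Nat.prime_dvd_prime_iff_eq hq hp.out).mp (hq.dvd_of_dvd_pow hj.dvd)
    subst hqp
    obtain ⟨z, hz⟩ := mem_zpowers_iff.mp
      (huniq (x : G) (y : G) (by rw [Subgroup.orderOf_coe, hx]) (by rw [Subgroup.orderOf_coe, hy]))
    exact hxy (mem_zpowers_iff.mpr ⟨z, Subtype.ext (by simpa using hz)⟩)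
  obtain ⟨⟨a, ha⟩, hgen⟩ := hcycA.exists_zpow_surjective
  obtain rfl : A = zpowers a := le_antisymm (fun x hx => by
    obtain ⟨z, hz⟩ := hgen ⟨x, hx⟩
    exact ⟨z, congrArg Subtype.val hz⟩) (zpowers_le.mpr ha)
  obtain ⟨n, hn⟩ := IsPGroup.iff_orderOf.mp hG a
  have hn0 : n ≠ 0 := by
    rintro rfl
    rw [pow_zero, orderOf_eq_one_iff] at hn
    subst hn
    have h1 : (⊤ : Subgroup G) ≤ ⊥ := by
      rw [← zpowers_one_eq_bot, ← hC]
      exact fun x _ => mem_centralizer_iff.mpr fun y hy => by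
        rw [SetLike.mem_coe, zpowers_one_eq_bot, mem_bot] at hy
        simp [hy]
    exact top_ne_bot (le_bot_iff.mp h1)
  by_cases hall : ∀ g : G, g ∈ zpowers a
  · exact Or.inl ⟨⟨a, hall⟩⟩
  push Not at hall
  obtain ⟨g₀, hg₀⟩ := hall
  have hk : ∀ g : G, ∃ k : ℤ, g * a * g⁻¹ = a ^ k := fun g => by
    obtain ⟨k, hk⟩ := mem_zpowers_iff.mp (hAn.conj_mem a (mem_zpowers a) g)
    exact ⟨k, hk.symm⟩
  have key : ∀ g ∉ zpowers a, g ^ p ∈ zpowers a →
      p = 2 ∧ 2 ≤ n ∧ g * a * g⁻¹ = a⁻¹ ∧ g * g = a ^ (2 ^ (n - 1)) := fun g hg hgp => by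
    obtain ⟨k, hk⟩ := hk g
    exact aux huniq hn hn0 hC hg hgp hk
  have hlast : ∀ g ∉ zpowers a, ∃ j : ℕ,
      g ^ (p ^ j) ∉ zpowers a ∧ (g ^ (p ^ j)) ^ p ∈ zpowers a := by
    intro g hg
    have hex : ∃ j, g ^ (p ^ j) ∈ zpowers a := by
      obtain ⟨j, hj⟩ := hG g
      exact ⟨j, hj ▸ one_mem _⟩
    obtain ⟨j, hj⟩ : ∃ j, Nat.find hex = j + 1 := by
      refine ⟨Nat.find hex - 1, ?_⟩
      have : Nat.find hex ≠ 0 := fun h0 => hg (by
        have := Nat.find_spec hex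
        rwa [h0, pow_zero, pow_one] at this)
      omega
    refine ⟨j, Nat.find_min hex (by omega), ?_⟩
    rw [← pow_mul, ← pow_succ, ← hj]
    exact Nat.find_spec hex
  obtain ⟨j₀, hj₀, hj₀'⟩ := hlast g₀ hg₀
  obtain ⟨hp2, hn2, -, -⟩ := key _ hj₀ hj₀'
  subst hp2
  have hsq : ∀ g ∉ zpowers a, g ^ 2 ∈ zpowers a := by
    intro g hg
    obtain ⟨j, hj, hj'⟩ := hlast g hg
    rcases Nat.eq_zero_or_pos j with rfl | hj0
    · simpa using hj'
    exfalso
    obtain ⟨-, -, hinv, -⟩ := key _ hj hj'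
    obtain ⟨k, hk'⟩ := hk (g ^ (2 ^ (j - 1)))
    have hsqe : g ^ (2 ^ j) = g ^ (2 ^ (j - 1)) * g ^ (2 ^ (j - 1)) := by
      rw [← pow_add, ← two_mul, ← pow_succ', Nat.sub_add_cancel hj0]
    set h := g ^ (2 ^ (j - 1)) with hh
    have h2 : h * h * a * (h * h)⁻¹ = a ^ (k * k) := by
      calc h * h * a * (h * h)⁻¹ = h * (h * a * h⁻¹) * h⁻¹ := by group
        _ = a ^ (k * k) := by rw [hk', ← conj_zpow, hk', ← zpow_mul]
    rw [← hsqe, hinv, ← zpow_neg_one, ← mul_inv_eq_one, ← zpow_sub,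
      ← orderOf_dvd_iff_zpow_eq_one, hn] at h2
    have h4 : (4 : ℤ) ∣ -1 - k * k :=
      (by exact_mod_cast (pow_dvd_pow 2 hn2 : 2 ^ 2 ∣ 2 ^ n) : (4 : ℤ) ∣ ((2 ^ n : ℕ) : ℤ)).trans h2
    rcases Int.even_or_odd k with ⟨e, he⟩ | ⟨e, he⟩
    · obtain ⟨c, hc⟩ := h4
      rw [he] at hc; ring_nf at hc; omega
    · obtain ⟨c, hc⟩ := h4
      rw [he] at hc; ring_nf at hc; omega
  have hkey : ∀ g ∉ zpowers a, g * a * g⁻¹ = a⁻¹ ∧ g * g = a ^ (2 ^ (n - 1)) := fun g hg =>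
    (key g hg (hsq g hg)).2.2
  obtain ⟨hg₀a, hg₀2⟩ := hkey g₀ hg₀
  have hcover : ∀ g : G, g ∉ zpowers a → g₀⁻¹ * g ∈ zpowers a := fun g hg => by
    refine hC.le (mem_centralizer_iff.mpr fun y hy => ?_)
    obtain ⟨z, rfl⟩ := mem_zpowers_iff.mp hy
    have h : g₀⁻¹ * g * a * (g₀⁻¹ * g)⁻¹ = a := by
      calc g₀⁻¹ * g * a * (g₀⁻¹ * g)⁻¹ = g₀⁻¹ * (g * a * g⁻¹) * g₀ := by group
        _ = g₀⁻¹ * (g₀ * a * g₀⁻¹) * g₀ := by rw [(hkey g hg).1, hg₀a]
        _ = a := by group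
    have h2 : Commute (g₀⁻¹ * g) a := mul_inv_eq_iff_eq_mul.mp h
    exact (h2.zpow_right z).eq.symm
  refine Or.inr ⟨rfl, n - 1, ?_⟩
  have hord : orderOf a = 2 * 2 ^ (n - 1) := by
    rw [hn, ← pow_succ', Nat.sub_add_cancel (by omega)]
  haveI : NeZero (2 * 2 ^ (n - 1)) := ⟨by positivity⟩
  let e : ZMod (2 * 2 ^ (n - 1)) → G := fun i => a ^ i.val
  have he : ∀ i j, e (i + j) = e i * e j := fun i j => by
    simp only [e, ← pow_add]
    rw [pow_eq_pow_iff_modEq, hord, ZMod.val_add]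
    exact Nat.mod_modEq _ _
  have he0 : e 0 = 1 := by simp [e]
  have hen : ∀ i, e (-i) = (e i)⁻¹ := fun i =>
    eq_inv_of_mul_eq_one_left (by rw [← he, neg_add_cancel, he0])
  have heg : ∀ i, g₀ * e i = (e i)⁻¹ * g₀ := fun i => by
    have h : g₀ * e i * g₀⁻¹ = (e i)⁻¹ := by
      simp only [e, ← conj_pow, hg₀a, inv_pow]
    rw [← h]; group
  have hem : e ((2 ^ (n - 1) : ℕ) : ZMod (2 * 2 ^ (n - 1))) = g₀ * g₀ := by
    simp only [e, hg₀2]
    rw [ZMod.val_natCast, Nat.mod_eq_of_lt (by have := Nat.two_pow_pos (n - 1); omega)]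
  have hcomm : ∀ i j, e i * e j = e j * e i := fun i j => by rw [← he, ← he, add_comm]
  let f : QuaternionGroup (2 ^ (n - 1)) →* G :=
    MonoidHom.mk' (fun q => match q with | .a i => e i | .xa i => g₀ * e i) fun x y => by
      match x, y with
      | .a i, .a j => exact he i j
      | .a i, .xa j =>
        show g₀ * e (j - i) = e i * (g₀ * e j)
        have h := heg (-i)
        rw [hen, inv_inv] at h
        rw [sub_eq_add_neg, add_comm, he, hen, ← mul_assoc, h, mul_assoc]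
      | .xa i, .a j =>
        show g₀ * e (i + j) = g₀ * e i * e j
        rw [he, mul_assoc]
      | .xa i, .xa j =>
        show e (((2 ^ (n - 1) : ℕ) : ZMod (2 * 2 ^ (n - 1))) + j - i) = g₀ * e i * (g₀ * e j)
        rw [add_sub_assoc, sub_eq_neg_add, he, he, hen, hem]
        have := heg (-i)
        rw [hen, inv_inv] at this
        rw [show g₀ * e i * (g₀ * e j) = g₀ * (e i * g₀) * e j by group, ← this]
        group
  refine ⟨(MulEquiv.ofBijective f ⟨?_, fun g => ?_⟩).symm⟩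
  · rw [injective_iff_map_eq_one]
    rintro (i | i) hi
    · have hi' : a ^ i.val = 1 := hi
      have h1 := orderOf_dvd_of_pow_eq_one hi'
      rw [hord] at h1
      have h2 : i.val = 0 := Nat.eq_zero_of_dvd_of_lt h1 (ZMod.val_lt i)
      rw [ZMod.val_eq_zero] at h2
      rw [h2]; rfl
    · refine absurd ?_ hg₀
      have hi' : g₀ * a ^ i.val = 1 := hi
      rw [eq_inv_of_mul_eq_one_left hi']
      exact inv_mem (pow_mem (mem_zpowers a) _)
  · by_cases hg : g ∈ zpowers a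
    · obtain ⟨j, rfl⟩ := (Submonoid.mem_powers_iff _ _).mp
        ((isOfFinOrder_of_finite a).mem_powers_iff_mem_zpowers.mpr hg)
      refine ⟨.a (j : ZMod _), ?_⟩
      show a ^ (j : ZMod (2 * 2 ^ (n - 1))).val = a ^ j
      rw [pow_eq_pow_iff_modEq, hord, ZMod.val_natCast]
      exact Nat.mod_modEq _ _
    · obtain ⟨j, hj⟩ := (Submonoid.mem_powers_iff _ _).mp
        ((isOfFinOrder_of_finite a).mem_powers_iff_mem_zpowers.mpr (hcover g hg))
      refine ⟨.xa (j : ZMod _), ?_⟩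
      show g₀ * a ^ (j : ZMod (2 * 2 ^ (n - 1))).val = g
      rw [show g = g₀ * a ^ j by rw [hj]; group]
      congr 1
      rw [pow_eq_pow_iff_modEq, hord, ZMod.val_natCast]
      exact Nat.mod_modEq _ _

end Cfsg.Lib.UniqueSub
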