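import Cfsg.Agent.Frobenius.DivisionRing

/-!
A fixed-point-free plane representation of `SL(2,5)` over the field of eleven elements.
-/

namespace Cfsg.Lib.Frobenius.SLTwoFive

open Matrix

/-- Code of a matrix over the five-element field, code of its image, and a word in the two generators. -/
def table : List (ℕ × ℕ × ℕ × ℕ) :=
  [(45, 11586, 30, 6), (46, 12400, 30, 5), (47, 10973, 61, 6), (48, 5746, 72, 7), (49, 6265, 30, 7), (60, 880, 12, 6), (61, 13818, 12, 4), (62, 6537, 12, 7), (63, 9424, 12, 5), (64, 1549, 12, 8), (90, 572, 10, 5), (91, 14555, 56, 6), (92, 5349, 10, 4), (93, 9446, 10, 6), (94, 2286, 56, 7), (105, 4518, 33, 6), (106, 9839, 16, 5), (107, 10358, 16, 6), (108, 5131, 16, 7), (109, 3704, 67, 7), (126, 1332, 0, 0), (131, 4620, 1, 1), (136, 11208, 3, 2), (141, 14220, 7, 3), (146, 828, 15, 4), (151, 234, 0, 1), (157, 8835, 1, 2), (163, 10420, 3, 3), (169, 6453, 7, 4), (170, 7597, 15, 5), (176, 13769, 0, 2), (183,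 6034, 1, 3), (185, 2881, 3, 4), (192, 3797, 7, 5), (199, 5859, 15, 6), (201, 11659, 0, 3), (209, 9014, 1, 4), (212, 13931, 3, 5), (215, 3618, 7, 6), (223, 9969, 36, 6), (226, 5214, 0, 4), (230, 5036, 1, 5), (239, 8420, 3, 6), (243, 5462, 54, 6), (247, 8076, 36, 7), (253, 13531, 11, 6), (258, 12718, 2, 4), (263, 13048, 24, 6), (268, 14114, 5, 5), (273, 8189, 18, 5), (278, 8332, 11, 4), (281, 2701, 2, 2), (289, 11752, 23, 5), (292, 14322, 5, 3), (295, 9742, 47, 6), (303, 13663, 44, 6), (309, 7366, 2, 5), (310, 4096, 24, 7), (316, 7501, 28, 5), (322, 14465, 18, 6), (328, 12168, 11, 5), (332, 307, 2, 3), (336, 2983, 24, 5), (340, 4118, 5, 4), (349, 11301, 49, 6), (353, 12696, 22, 5), (355, 9127, 2, 6), (362, 450, 45, 6), (369, 6794, 28, 6), (371, 3152, 18, 7), (377, 2573, 52, 6), (382, 7915, 4, 4), (387, 1990, 6, 6), (392, 3056, 20, 5), (397, 3386, 9, 5), (402, 3408, 13, 4), (409, 12831, 4, 6), (411, 9310, 6, 3), (418, 1013, 27, 5),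 (420, 6977, 9, 7), (427, 3936, 13, 6), (431, 4803, 4, 3), (435, 11865, 6, 5), (444, 13121, 27, 7), (448, 1156, 9, 4), (452, 2441, 26, 5), (458, 1628, 4, 5), (464, 8603, 6, 7), (465, 10677, 20, 6), (471, 8738, 9, 6), (477, 7772, 13, 5), (480, 6362, 4, 7), (488, 1771, 6, 4), (491, 4352, 27, 6), (499, 12072, 9, 8), (504, 13320, 17, 8), (509, 635, 8, 7), (514, 1884, 29, 6), (519, 4896, 14, 5), (524, 11473, 60, 8), (529, 10879, 17, 7), (533, 6697, 8, 6), (537, 10642, 29, 5), (541, 7684, 14, 4), (545, 11068, 60, 7), (554, 4445, 17, 6), (557, 6135, 8, 5), (560, 12486, 48, 8), (568, 2173, 108, 7), (571, 7090, 60, 6), (579, 2335, 17, 5), (581, 10245, 8, 4), (588, 12307, 48, 7), (590, 13223, 14, 7), (597, 10070, 35, 6), (604, 1229, 195, 8), (605, 8507, 97, 7), (611, 9651, 48, 6), (617, 5684, 14, 6), (623, 7148, 144, 8)]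

/-- Code of a matrix. -/
def key (a b c d : ZMod 5) : ℕ := a.val * 125 + b.val * 25 + c.val * 5 + d.val

/-- The table entry of a matrix. -/
def entry (M : Matrix (Fin 2) (Fin 2) (ZMod 5)) : ℕ × ℕ × ℕ × ℕ :=
  (table.find? fun e => e.1 == key (M 0 0) (M 0 1) (M 1 0) (M 1 1)).getD (0, 0, 0, 0)

/-- The image of a matrix. -/
def img (M : Matrix (Fin 2) (Fin 2) (ZMod 5)) : Matrix (Fin 2) (Fin 2) (ZMod 11) :=
  let v := (entry M).2.1
  !![((v / 1331 % 11 : ℕ) : ZMod 11), ((v / 121 % 11 : ℕ) : ZMod 11); ((v / 11 % 11 : ℕ) : ZMod 11), ((v % 11 : ℕ) : ZMod 11)]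

/-- The two generators. -/
def gen (b : Bool) : Matrix (Fin 2) (Fin 2) (ZMod 5) := if b then !![1, 0; 1, 1] else !![1, 1; 0, 1]

/-- The product along a word. -/
def wordProd (bits : ℕ) : ℕ → ℕ → Matrix (Fin 2) (Fin 2) (ZMod 5)
  | _, 0 => 1
  | i, n + 1 => gen (bits.testBit i) * wordProd bits (i + 1) n

theorem check : ∀ a b c d : ZMod 5, a * d - b * c = 1 →
    (wordProd (entry !![a, b; c, d]).2.2.1 0 (entry !![a, b; c, d]).2.2.2 = !![a, b; c, d]) ∧
    (∀ s : Bool, img (gen s * !![a, b; c, d]) = img (gen s) * img !![a, b; c, d]) ∧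
    (a = 1 ∧ b = 0 ∧ c = 0 ∧ d = 1 ∨ (img !![a, b; c, d] - 1).det ≠ 0) := by
  decide +kernel

theorem img_one : img 1 = 1 := by decide +kernel

theorem det_gen : ∀ s, (gen s).det = 1 := by decide +kernel

theorem check' (M : Matrix (Fin 2) (Fin 2) (ZMod 5)) (h : M.det = 1) :
    (wordProd (entry M).2.2.1 0 (entry M).2.2.2 = M) ∧ (∀ s, img (gen s * M) = img (gen s) * img M) ∧
      (M = 1 ∨ (img M - 1).det ≠ 0) := by
  rw [Matrix.det_fin_two] at h
  have := check (M 0 0) (M 0 1) (M 1 0) (M 1 1) h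
  rw [← Matrix.eta_fin_two M] at this
  refine ⟨this.1, this.2.1, this.2.2.imp_left fun ⟨e1, e2, e3, e4⟩ => ?_⟩
  rw [Matrix.eta_fin_two M, e1, e2, e3, e4, Matrix.one_fin_two]

theorem wordProd_mul (bits : ℕ) : ∀ (n i : ℕ) (M : Matrix (Fin 2) (Fin 2) (ZMod 5)), M.det = 1 →
    (wordProd bits i n).det = 1 ∧ img (wordProd bits i n * M) = img (wordProd bits i n) * img M
  | 0, i, M, _ => by simp [wordProd, img_one]
  | n + 1, i, M, hM => by
    obtain ⟨hd, he⟩ := wordProd_mul bits n (i + 1) M hM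
    simp only [wordProd]
    refine ⟨by rw [Matrix.det_mul, det_gen, hd, one_mul], ?_⟩
    rw [mul_assoc, (check' _ (by rw [Matrix.det_mul, hd, hM, one_mul])).2.1, he,
      (check' _ hd).2.1, mul_assoc]

theorem occurs : Cfsg.Lib.Frobenius.DivRing.Occurs (Matrix.SpecialLinearGroup (Fin 2) (ZMod 5)) := by
  let ρ : Matrix.SpecialLinearGroup (Fin 2) (ZMod 5) →* AddMonoid.End (Fin 2 → ZMod 11) :=
    { toFun := fun A => (Matrix.toLin' (img A.1)).toAddMonoidHom
      map_one' := AddMonoidHom.ext fun x => by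
        show (img (1 : Matrix (Fin 2) (Fin 2) (ZMod 5))) *ᵥ x = x
        rw [img_one, Matrix.one_mulVec]
      map_mul' := fun A B => AddMonoidHom.ext fun x => by
        show (img (A.1 * B.1)) *ᵥ x = img A.1 *ᵥ (img B.1 *ᵥ x)
        conv_lhs => rw [← (check' _ A.2).1]
        rw [(wordProd_mul _ _ 0 _ B.2).2, (check' _ A.2).1, Matrix.mulVec_mulVec] }
  haveI : Fact (Nat.Prime 11) := ⟨by norm_num⟩
  haveI : Nontrivial (Matrix.SpecialLinearGroup (Fin 2) (ZMod 5)) :=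
    ⟨⟨1, ⟨gen true, det_gen true⟩, fun h => by
      have := congrFun (congrFun (congrArg Subtype.val h) 1) 0
      revert this; decide⟩⟩
  refine Cfsg.Lib.Frobenius.DivRing.occurs_of_fpf ρ fun A hA x hx => ?_
  have hx' : img A.1 *ᵥ x = x := hx
  have hdet := (check' _ A.2).2.2.resolve_left fun e => hA (Subtype.ext e)
  refine Matrix.eq_zero_of_mulVec_eq_zero hdet ?_
  rw [Matrix.sub_mulVec, hx', Matrix.one_mulVec, sub_self]

end Cfsg.Lib.Frobenius.SLTwoFive
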