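import Cfsg.Agent.Coprime.Basic
import Cfsg.Prelude.Def_Solvable

/-!
Frobenius complements: counting, involutions, containment.
-/

set_option linter.style.haveILetI false
set_option linter.unusedSectionVars false

namespace Cfsg.Lib.Frobenius

open Subgroup Cfsg.Lib.Coprime
open scoped Pointwise

variable {G : Type*} [Group G] {H : Subgroup G}

theorem inter_trivial (hH : IsFrobeniusComplement H) {a b x : G} (ha : x ∈ conjMap a H)
    (hb : x ∈ conjMap b H) (hx : x ≠ 1) : a⁻¹ * b ∈ H := by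
  by_contra hcon
  have h := hH.2.2 _ hcon
  rw [mem_conjMap] at ha hb
  have hin : a⁻¹ * x * a ∈ H ⊓ MulAut.conj (a⁻¹ * b) • H := by
    refine ⟨ha, ?_⟩
    show a⁻¹ * x * a ∈ conjMap (a⁻¹ * b) H
    rw [mem_conjMap]
    simpa [mul_assoc] using hb
  rw [h, mem_bot, mul_assoc, inv_mul_eq_one] at hin
  exact hx (by simpa using hin.symm)

theorem conjMap_eq_of_mem (hH : IsFrobeniusComplement H) {a b x : G} (ha : x ∈ conjMap a H)
    (hb : x ∈ conjMap b H) (hx : x ≠ 1) : conjMap a H = conjMap b H := by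
  have h := inter_trivial hH ha hb hx
  rw [show b = a * (a⁻¹ * b) by group, ← conjMap_mul, conjMap_eq_self (le_normalizer h)]

theorem normalizer_eq (hH : IsFrobeniusComplement H) : normalizer (H : Set G) = H := by
  refine le_antisymm (fun g hg => ?_) le_normalizer
  by_contra hcon
  refine hH.1 ?_
  have h := hH.2.2 g hcon
  rwa [conj_smul_eq, conjMap_eq_self hg, inf_idem] at h

theorem mem_of_commute (hH : IsFrobeniusComplement H) {h x : G} (hh : h ∈ H) (h1 : h ≠ 1)
    (hc : x * h = h * x) : x ∈ H := by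
  have h1' : h ∈ conjMap 1 H := by rwa [conjMap_one]
  have h2' : h ∈ conjMap x H := by
    rw [mem_conjMap, mul_assoc, ← hc, inv_mul_cancel_left]; exact hh
  simpa using inter_trivial hH h1' h2' h1

theorem mem_kernel_iff {x : G} :
    x ∈ frobeniusKernel H ↔ x = 1 ∨ ∀ g : G, x ∉ conjMap g H := Iff.rfl

theorem not_mem_kernel {x g : G} (hx : x ≠ 1) (h : x ∈ conjMap g H) : x ∉ frobeniusKernel H :=
  fun hk => (hk.resolve_left hx) g h

theorem eq_one_of_mem_kernel {x g : G} (hx : x ∈ frobeniusKernel H) (h : x ∈ conjMap g H) :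
    x = 1 := by
  by_contra h1
  exact not_mem_kernel h1 h hx

theorem one_mem_kernel : (1 : G) ∈ frobeniusKernel H := Or.inl rfl

theorem conj_mem_kernel {x g : G} (hx : x ∈ frobeniusKernel H) :
    g * x * g⁻¹ ∈ frobeniusKernel H := by
  rcases hx with rfl | hx
  · left; group
  · refine Or.inr fun a ha => hx (g⁻¹ * a) ?_
    have : g * x * g⁻¹ ∈ conjMap a H := ha
    rw [mem_conjMap] at this
    show x ∈ conjMap (g⁻¹ * a) H
    rw [mem_conjMap]
    simpa [mul_assoc] using this

theorem inv_mem_kernel {x : G} (hx : x ∈ frobeniusKernel H) : x⁻¹ ∈ frobeniusKernel H := by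
  rcases hx with rfl | hx
  · left; group
  · exact Or.inr fun a ha => hx a (by
      have := Subgroup.inv_mem _ (show x⁻¹ ∈ conjMap a H from ha)
      rwa [inv_inv] at this)

theorem card_nonkernel [Finite G] (hH : IsFrobeniusComplement H) :
    Nat.card {x : G // x ∉ frobeniusKernel H} = H.index * (Nat.card H - 1) := by
  let f : (G ⧸ H) × {h : H // h ≠ 1} → {x : G // x ∉ frobeniusKernel H} := fun q =>
    ⟨q.1.out * (q.2.1 : G) * q.1.out⁻¹, not_mem_kernel (g := q.1.out)
      (by simp [q.2.2]) (by rw [mem_conjMap]; simp [mul_assoc, q.2.1.2])⟩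
  have hinj : Function.Injective f := by
    rintro ⟨q, h⟩ ⟨q', h'⟩ he
    have he' : q.out * (h.1 : G) * q.out⁻¹ = q'.out * (h'.1 : G) * q'.out⁻¹ := congrArg Subtype.val he
    have hm := inter_trivial hH (a := q.out) (b := q'.out) (x := q.out * (h.1 : G) * q.out⁻¹)
      (by rw [mem_conjMap]; simp [mul_assoc, h.1.2])
      (by rw [he', mem_conjMap]; simp [mul_assoc, h'.1.2]) (by simp [h.2])
    have hq : q = q' := by
      have := QuotientGroup.eq.mpr hm
      rwa [QuotientGroup.out_eq', QuotientGroup.out_eq'] at this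
    subst hq
    have h' : (h.1 : G) = h'.1 := mul_left_cancel (mul_right_cancel he')
    exact Prod.ext rfl (Subtype.ext (Subtype.ext h'))
  have hsurj : Function.Surjective f := by
    rintro ⟨x, hx⟩
    rw [mem_kernel_iff] at hx
    push Not at hx
    obtain ⟨hx1, g, hg⟩ := hx
    obtain ⟨c, hc⟩ := QuotientGroup.mk_out_eq_mul H g
    rw [mem_conjMap] at hg
    have hmem : (g : G ⧸ H).out⁻¹ * x * (g : G ⧸ H).out ∈ H := by
      rw [hc]
      have := H.mul_mem (H.mul_mem (H.inv_mem c.2) hg) c.2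
      simpa [mul_assoc] using this
    refine ⟨((g : G ⧸ H), ⟨⟨_, hmem⟩, ?_⟩), Subtype.ext ?_⟩
    · intro h
      have h' := congrArg Subtype.val h
      simp only [Subgroup.coe_one, mul_assoc, inv_mul_eq_one] at h'
      exact hx1 (by simpa using h'.symm)
    · simp [f, mul_assoc]
  rw [← Nat.card_congr (Equiv.ofBijective f ⟨hinj, hsurj⟩), Nat.card_prod, index_eq_card]
  congr 1
  haveI := Fintype.ofFinite H
  classical
  rw [Nat.card_eq_fintype_card, Nat.card_eq_fintype_card, Fintype.card_subtype_compl,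
    Fintype.card_subtype_eq]

theorem card_kernel [Finite G] (hH : IsFrobeniusComplement H) :
    Nat.card (frobeniusKernel H) = H.index := by
  classical
  have h := card_nonkernel hH
  haveI := Fintype.ofFinite G
  have h2 : Nat.card (frobeniusKernel H) + Nat.card {x : G // x ∉ frobeniusKernel H}
      = Nat.card G := by
    rw [← Nat.card_sum]
    exact Nat.card_congr (Equiv.sumCompl fun x => x ∈ frobeniusKernel H)
  rw [h, ← H.index_mul_card] at h2
  have h3 : 1 ≤ Nat.card H := Nat.card_pos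
  have h4 : H.index * Nat.card H = H.index * (Nat.card H - 1) + H.index := by
    rw [← Nat.mul_succ, Nat.succ_eq_add_one, Nat.sub_add_cancel h3]
  omega

theorem card_dvd_card_kernel_sub_one [Finite G] (hH : IsFrobeniusComplement H) :
    Nat.card H ∣ H.index - 1 := by
  classical
  let Y := {x : G // x ∈ frobeniusKernel H ∧ x ≠ 1}
  letI : MulAction H Y :=
    { smul := fun h y => ⟨(h : G) * y.1 * (h : G)⁻¹, conj_mem_kernel y.2.1, fun he => y.2.2 (conj_eq_one_iff.mp he)⟩
      one_smul := fun y => Subtype.ext (by show ((1 : H) : G) * _ * _ = _; simp)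
      mul_smul := fun a b y => Subtype.ext (by
        show ((a * b : H) : G) * y.1 * ((a * b : H) : G)⁻¹
          = (a : G) * ((b : G) * y.1 * (b : G)⁻¹) * (a : G)⁻¹
        simp [mul_assoc]) }
  have hfree : ∀ y : Y, MulAction.stabilizer H y = ⊥ := by
    intro y
    rw [eq_bot_iff]
    intro h hh
    rw [Subgroup.mem_bot]
    by_contra h1
    have he : (h : G) * y.1 * (h : G)⁻¹ = y.1 := congrArg Subtype.val hh
    have hy : y.1 ∈ H := mem_of_commute hH h.2 (fun e => h1 (Subtype.ext e))
      (by rw [mul_inv_eq_iff_eq_mul] at he; exact he.symm)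
    exact y.2.2 (eq_one_of_mem_kernel (g := 1) y.2.1 (by rwa [conjMap_one]))
  haveI := Fintype.ofFinite G
  haveI := Fintype.ofFinite H
  have hc : Nat.card Y = Nat.card (MulAction.orbitRel.Quotient H Y) * Nat.card H := by
    rw [Nat.card_congr (MulAction.selfEquivSigmaOrbitsQuotientStabilizer H Y), Nat.card_sigma]
    simp only [Nat.card_eq_fintype_card, ← Finset.card_univ]
    rw [Finset.sum_const_nat]
    intro ω _
    rw [Finset.card_univ, ← Nat.card_eq_fintype_card, hfree]
    rw [Nat.card_congr (QuotientGroup.quotientBot (G := H)).toEquiv, Nat.card_eq_fintype_card,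
      Finset.card_univ]
  have hY : Nat.card Y + 1 = Nat.card (frobeniusKernel H) := by
    have he : Set.ncard (frobeniusKernel H \ {1}) = Nat.card Y := by
      rw [← Nat.card_coe_set_eq]
      exact Nat.card_congr (Equiv.subtypeEquivRight fun x => by simp)
    rw [← he, Nat.card_coe_set_eq, Set.ncard_sdiff_singleton_add_one one_mem_kernel (Set.toFinite _)]
  rw [card_kernel hH] at hY
  exact ⟨Nat.card (MulAction.orbitRel.Quotient H Y), by rw [← hY, hc]; simp [mul_comm]⟩

theorem mul_conj_mem_kernel (hH : IsFrobeniusComplement H) {a b t s : G} (ht : t ∈ conjMap a H)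
    (hs : s ∈ conjMap b H) (hta : t ≠ 1) (hsa : s ≠ 1) (ht2 : t * t = 1) (hs2 : s * s = 1)
    (hne : conjMap a H ≠ conjMap b H) :
    t * s ∈ frobeniusKernel H := by
  by_cases ht1 : t * s = 1
  · rw [ht1]; exact one_mem_kernel
  refine Or.inr fun c hc => ?_
  have hc' : t * s ∈ conjMap c H := hc
  have hinv : t * (t * s) * t⁻¹ = (t * s)⁻¹ := by
    have e1 : t⁻¹ = t := inv_eq_of_mul_eq_one_right ht2
    have e2 : s⁻¹ = s := inv_eq_of_mul_eq_one_right hs2
    rw [mul_inv_rev, e1, e2, ← mul_assoc t t s, ht2, one_mul]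
  have h2 : t * s ∈ conjMap (t * c) H := by
    have h3 : (t * s)⁻¹ ∈ conjMap (t * c) H := by
      rw [← hinv, mem_conjMap]
      have := mem_conjMap.mp hc'
      simpa [mul_assoc] using this
    exact inv_inv (t * s) ▸ Subgroup.inv_mem _ h3
  have hmem := inter_trivial hH hc' h2 ht1
  have htc : t ∈ conjMap c H := mem_conjMap.mpr (by rwa [mul_assoc])
  have hsc : s ∈ conjMap c H := by
    have := Subgroup.mul_mem _ htc hc'
    rwa [← mul_assoc, ht2, one_mul] at this
  exact hne ((conjMap_eq_of_mem hH ht htc hta).trans (conjMap_eq_of_mem hH hs hsc hsa).symm)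

/-- an involution `t` of the complement: every kernel element is a product of `t` and one of its
conjugates, `t` inverts the kernel and is the only involution of the complement -/
theorem involution_inverts [Finite G] (hH : IsFrobeniusComplement H) {a : G} {t : G}
    (ht : t ∈ conjMap a H) (ht1 : t ≠ 1) (ht2 : t * t = 1) :
    (∀ x ∈ frobeniusKernel H, t * x * t⁻¹ = x⁻¹) ∧
      (∀ x ∈ frobeniusKernel H, ∃ g : G, x = t * (g * t * g⁻¹)) ∧
      ∀ u ∈ conjMap a H, u ≠ 1 → u * u = 1 → u = t := by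
  classical
  haveI := Fintype.ofFinite G
  let σ : G ⧸ H → G := fun q => q.out * a⁻¹ * t * (q.out * a⁻¹)⁻¹
  have hσmem : ∀ q : G ⧸ H, σ q ∈ conjMap q.out H := by
    intro q
    show q.out * a⁻¹ * t * (q.out * a⁻¹)⁻¹ ∈ conjMap q.out H
    rw [mem_conjMap]
    simpa [mul_assoc] using mem_conjMap.mp ht
  have hσ1 : ∀ q, σ q ≠ 1 := fun q h => ht1 (by
    simp only [σ, mul_inv_eq_one, mul_eq_left] at h
    exact h)
  have hσ2 : ∀ q, σ q * σ q = 1 := fun q => by
    show q.out * a⁻¹ * t * (q.out * a⁻¹)⁻¹ * (q.out * a⁻¹ * t * (q.out * a⁻¹)⁻¹) = 1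
    rw [show q.out * a⁻¹ * t * (q.out * a⁻¹)⁻¹ * (q.out * a⁻¹ * t * (q.out * a⁻¹)⁻¹)
      = q.out * a⁻¹ * (t * t) * (q.out * a⁻¹)⁻¹ by group, ht2, mul_one, mul_inv_cancel]
  set q₀ : G ⧸ H := (a : G ⧸ H) with hq₀
  have hqne : ∀ q, q ≠ q₀ → conjMap a H ≠ conjMap q.out H := by
    intro q hq he
    apply hq
    rw [hq₀, ← QuotientGroup.out_eq' q, QuotientGroup.eq]
    have h2 : conjMap (q.out⁻¹ * a) H = H := by rw [← conjMap_mul, he, conjMap_inv_conjMap]
    rwa [conjMap_eq_self_iff, normalizer_eq hH] at h2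
  let F : G ⧸ H → frobeniusKernel H := fun q =>
    if hq : q = q₀ then ⟨1, one_mem_kernel⟩
    else ⟨t * σ q, mul_conj_mem_kernel hH ht (hσmem q) ht1 (hσ1 q) ht2 (hσ2 q) (hqne q hq)⟩
  have hne1 : ∀ q, q ≠ q₀ → t * σ q ≠ 1 := by
    intro q hq h
    have : σ q = t := by
      rw [← inv_eq_of_mul_eq_one_right h, inv_eq_of_mul_eq_one_right ht2]
    exact hqne q hq (conjMap_eq_of_mem hH ht (this ▸ hσmem q) ht1)
  have hinj : Function.Injective F := by
    intro q q' he
    by_cases hq : q = q₀ <;> by_cases hq' : q' = q₀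
    · rw [hq, hq']
    · simp only [F, dif_pos hq, dif_neg hq'] at he
      exact absurd (congrArg Subtype.val he).symm (hne1 q' hq')
    · simp only [F, dif_pos hq', dif_neg hq] at he
      exact absurd (congrArg Subtype.val he) (hne1 q hq)
    · simp only [F, dif_neg hq, dif_neg hq'] at he
      have h2 : σ q = σ q' := mul_left_cancel (congrArg Subtype.val he)
      have h3 := inter_trivial hH (hσmem q) (h2 ▸ hσmem q') (hσ1 q)
      have := QuotientGroup.eq.mpr h3
      rwa [QuotientGroup.out_eq', QuotientGroup.out_eq'] at this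
  have hsurj : Function.Surjective F := ((Nat.bijective_iff_injective_and_card F).mpr
    ⟨hinj, by rw [card_kernel hH, index_eq_card]⟩).2
  have hrep : ∀ x ∈ frobeniusKernel H, ∃ g : G, x = t * (g * t * g⁻¹) := by
    intro x hx
    obtain ⟨q, hq⟩ := hsurj ⟨x, hx⟩
    by_cases hq0 : q = q₀
    · simp only [F, dif_pos hq0] at hq
      have h1 : (1 : G) = x := congrArg Subtype.val hq
      exact ⟨1, by rw [← h1]; simp [ht2]⟩
    · simp only [F, dif_neg hq0] at hq
      exact ⟨q.out * a⁻¹, (congrArg Subtype.val hq).symm⟩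
  have hinv : ∀ x ∈ frobeniusKernel H, t * x * t⁻¹ = x⁻¹ := by
    intro x hx
    obtain ⟨g, rfl⟩ := hrep x hx
    have e1 : t⁻¹ = t := inv_eq_of_mul_eq_one_right ht2
    simp only [mul_inv_rev, inv_inv, e1, ← mul_assoc, ht2, one_mul]
  refine ⟨hinv, hrep, fun u hu hu1 hu2 => ?_⟩
  by_contra hne
  -- a kernel element different from one
  have hidx : 2 ≤ Nat.card (frobeniusKernel H) := by
    rw [card_kernel hH]
    exact one_lt_index_of_ne_top hH.2.1
  obtain ⟨q, hq⟩ : ∃ q, q ≠ q₀ := by
    by_contra hall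
    push Not at hall
    haveI : Subsingleton (G ⧸ H) := ⟨fun x y => (hall x).trans (hall y).symm⟩
    rw [card_kernel hH, index_eq_card, Nat.card_eq_one_iff_unique.mpr ⟨inferInstance, inferInstance⟩]
      at hidx
    omega
  set x := (F q : G) with hxdef
  have hx1 : x ≠ 1 := by
    simp only [hxdef, F, dif_neg hq]
    exact hne1 q hq
  -- `u` inverts the kernel as well, so `u t` centralises `x`
  have huinv : u * x * u⁻¹ = x⁻¹ := by
    have hs : u * σ q ∈ frobeniusKernel H :=
      mul_conj_mem_kernel hH hu (hσmem q) hu1 (hσ1 q) hu2 (hσ2 q) (hqne q hq)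
    have e1 : u⁻¹ = u := inv_eq_of_mul_eq_one_right hu2
    have e2 : t⁻¹ = t := inv_eq_of_mul_eq_one_right ht2
    have e3 : (σ q)⁻¹ = σ q := inv_eq_of_mul_eq_one_right (hσ2 q)
    -- `t` inverts `u σ`
    have h5 : t * u * σ q * t = σ q * u := by
      have h4 := hinv _ hs
      rw [e2, mul_inv_rev, e3, e1] at h4
      simpa [mul_assoc] using h4
    simp only [hxdef, F, dif_neg hq]
    rw [e1, mul_inv_rev, e3, e2]
    calc u * (t * σ q) * u = u * t * (σ q * u) := by group
      _ = u * t * (t * u * σ q * t) := by rw [h5]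
      _ = u * (t * t) * u * σ q * t := by group
      _ = σ q * t := by rw [ht2, mul_one, hu2, one_mul]
  have hcomm : (u * t) * x = x * (u * t) := by
    have h1 : t * x * t⁻¹ = x⁻¹ := hinv x (F q).2
    have h2 : (u * t) * x * (u * t)⁻¹ = x := by
      rw [show u * t * x * (u * t)⁻¹ = u * (t * x * t⁻¹) * u⁻¹ by group, h1]
      rw [show u * x⁻¹ * u⁻¹ = (u * x * u⁻¹)⁻¹ by group, huinv, inv_inv]
    rwa [mul_inv_eq_iff_eq_mul] at h2
  have hut : u * t ≠ 1 := fun h => hne (by
    rw [← inv_eq_of_mul_eq_one_right h, inv_eq_of_mul_eq_one_right hu2])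
  have hutH : a⁻¹ * (u * t) * a ∈ H := mem_conjMap.mp (Subgroup.mul_mem _ hu ht)
  have hxH : a⁻¹ * x * a ∈ H := by
    refine mem_of_commute hH hutH (fun h => hut ?_) ?_
    · have h' := congrArg (fun z => a * z * a⁻¹) h
      simpa [mul_assoc] using h'
    · rw [show a⁻¹ * x * a * (a⁻¹ * (u * t) * a) = a⁻¹ * (x * (u * t)) * a by group, ← hcomm]
      group
  exact not_mem_kernel hx1 (mem_conjMap.mpr hxH) (F q).2

theorem kernel_mul_mem [Finite G] (hH : IsFrobeniusComplement H) {t : G} (ht : t ∈ H) (ht1 : t ≠ 1)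
    (ht2 : t * t = 1) {x y : G} (hx : x ∈ frobeniusKernel H) (hy : y ∈ frobeniusKernel H) :
    x * y ∈ frobeniusKernel H := by
  have ht' : t ∈ conjMap 1 H := by rwa [conjMap_one]
  obtain ⟨hinv, hrep, -⟩ := involution_inverts hH ht' ht1 ht2
  obtain ⟨a, hxa⟩ := hrep x hx
  -- `x⁻¹ = t x t = (g t g⁻¹) t`
  set s := a * t * a⁻¹ with hs
  have hs_mem : s ∈ conjMap a H := by rw [hs, mem_conjMap]; simpa [mul_assoc] using ht
  have hs1 : s ≠ 1 := fun h => ht1 (by rw [hs, mul_inv_eq_one, mul_eq_left] at h; exact h)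
  have hs2 : s * s = 1 := by
    rw [hs, show a * t * a⁻¹ * (a * t * a⁻¹) = a * (t * t) * a⁻¹ by group, ht2]; group
  obtain ⟨-, hrep', -⟩ := involution_inverts hH hs_mem hs1 hs2
  obtain ⟨b, hyb⟩ := hrep' y hy
  set u := b * s * b⁻¹ with hu
  have hxy : x * y = t * u := by
    rw [hxa, hyb, show t * s * (s * u) = t * (s * s) * u by group, hs2, mul_one]
  have hu_mem : u ∈ conjMap (b * a) H := by
    rw [hu, ← conjMap_mul, mem_conjMap]; simpa [mul_assoc] using hs_mem
  have hu1 : u ≠ 1 := fun h => hs1 (by rw [hu, mul_inv_eq_one, mul_eq_left] at h; exact h)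
  have hu2 : u * u = 1 := by
    rw [hu, show b * s * b⁻¹ * (b * s * b⁻¹) = b * (s * s) * b⁻¹ by group, hs2]; group
  rw [hxy]
  by_cases he : conjMap 1 H = conjMap (b * a) H
  · rw [(involution_inverts hH ht' ht1 ht2).2.2 u (he ▸ hu_mem) hu1 hu2, ht2]
    exact one_mem_kernel
  · exact mul_conj_mem_kernel hH ht' hu_mem ht1 hu1 ht2 hu2 he

/-- a smaller Frobenius complement is conjugate into a bigger one -/
theorem exists_conj_le [Finite G] {H₀ : Subgroup G} (hH : IsFrobeniusComplement H)
    (hH₀ : IsFrobeniusComplement H₀) (hle : Nat.card H₀ ≤ Nat.card H) :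
    ∃ g : G, conjMap g H₀ ≤ H := by
  classical
  haveI := Fintype.ofFinite G
  have hH2 : 2 ≤ Nat.card H := H.one_lt_card_iff_ne_bot.mpr hH.1
  have hH02 : 2 ≤ Nat.card H₀ := H₀.one_lt_card_iff_ne_bot.mpr hH₀.1
  have hi := H.index_mul_card
  have hi0 := H₀.index_mul_card
  have hidx : H.index ≤ H₀.index := by
    by_contra hcon
    have : H₀.index * Nat.card H₀ < H.index * Nat.card H :=
      Nat.mul_lt_mul_of_lt_of_le (by omega) hle (by omega)
    omega
  -- some nonidentity element lies in conjugates of both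
  obtain ⟨x, hx1, hx2⟩ : ∃ x, x ∉ frobeniusKernel H ∧ x ∉ frobeniusKernel H₀ := by
    by_contra hcon
    push Not at hcon
    have hsub : {x : G | x ∉ frobeniusKernel H} ⊆ frobeniusKernel H₀ \ {1} := fun x hx =>
      ⟨hcon x hx, fun h => hx (by rw [Set.mem_singleton_iff.mp h]; exact one_mem_kernel)⟩
    have h1 := Set.ncard_le_ncard hsub (Set.toFinite _)
    have hX : Set.ncard {x : G | x ∉ frobeniusKernel H} = H.index * (Nat.card H - 1) := by
      rw [← Nat.card_coe_set_eq]; exact card_nonkernel hH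
    rw [hX, Set.ncard_sdiff_singleton_of_mem one_mem_kernel,
      ← Nat.card_coe_set_eq, card_kernel hH₀] at h1
    have h4 : H.index * Nat.card H = H.index * (Nat.card H - 1) + H.index := by
      rw [← Nat.mul_succ, Nat.succ_eq_add_one, Nat.sub_add_cancel (by omega)]
    have h5 : 2 * H.index ≤ H.index * Nat.card H := by rw [mul_comm]; gcongr
    have h6 : 2 * H₀.index ≤ H₀.index * Nat.card H₀ := by rw [mul_comm]; gcongr
    have h7 : 1 ≤ H₀.index := Nat.pos_of_ne_zero index_ne_zero_of_finite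
    omega
  rw [mem_kernel_iff] at hx1 hx2
  push Not at hx1 hx2
  obtain ⟨hxne, a, ha⟩ := hx1
  obtain ⟨-, b, hb⟩ := hx2
  by_cases hin : conjMap b H₀ ≤ conjMap a H
  · refine ⟨a⁻¹ * b, ?_⟩
    rw [← conjMap_mul]
    have := conjMap_mono (g := a⁻¹) hin
    rwa [conjMap_inv_conjMap] at this
  exfalso
  set A := conjMap b H₀ with hA
  set D := A ⊓ conjMap a H with hD
  -- coset classes: an element of `A` in some conjugate of `H` is `A`-conjugate into `D`
  have hAne : ∀ y ∈ A, y ≠ 1 → ∀ c, y ∈ conjMap c H → ∃ d ∈ A, d * y * d⁻¹ ∈ D := by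
    intro y hy hy1 c hc
    by_contra hno
    push Not at hno
    set E := A ⊓ conjMap c H with hE
    -- translates of `D` and of `E` are disjoint and too many
    have key : ∀ (J : Subgroup G) (e : G), J = A ⊓ conjMap e H → J ≠ A →
        ∀ (q q' : A ⧸ J.subgroupOf A), ∀ z z' : G, z ∈ J → z' ∈ J → z ≠ 1 →
          (q.out : G) * z * (q.out : G)⁻¹ = (q'.out : G) * z' * (q'.out : G)⁻¹ → q = q' := by
      intro J e hJ hJA q q' z z' hz hz' hz1 he
      have h1 : (q.out : G) * z * (q.out : G)⁻¹ ∈ conjMap ((q.out : G) * e) H := by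
        rw [mem_conjMap]; simpa [mul_assoc] using mem_conjMap.mp ((hJ.le hz).2 : z ∈ conjMap e H)
      have h2 : (q.out : G) * z * (q.out : G)⁻¹ ∈ conjMap ((q'.out : G) * e) H := by
        rw [he, mem_conjMap]; simpa [mul_assoc] using mem_conjMap.mp ((hJ.le hz').2 : z' ∈ conjMap e H)
      have h3 := conjMap_eq_of_mem hH h1 h2 (by simpa using hz1)
      rw [← conjMap_mul, ← conjMap_mul] at h3
      have h4 : conjMap (((q.out : A) : G)⁻¹ * (q'.out : A)) (conjMap e H) = conjMap e H := by
        rw [← conjMap_mul, ← h3, conjMap_inv_conjMap]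
      rw [conjMap_eq_self_iff, normalizer_conjMap, normalizer_eq hH] at h4
      have : (q.out)⁻¹ * q'.out ∈ J.subgroupOf A := by
        rw [mem_subgroupOf]
        exact hJ.ge ⟨((q.out)⁻¹ * q'.out).2, h4⟩
      have h5 := QuotientGroup.eq.mpr this
      rwa [QuotientGroup.out_eq', QuotientGroup.out_eq'] at h5
    have hDA : D ≠ A := fun h => hin (h ▸ inf_le_right)
    have hEA : E ≠ A := by
      intro h
      have hxE : x ∈ conjMap c H := (h.symm ▸ (hb : x ∈ A) : x ∈ E).2
      exact hno 1 (one_mem _) (by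
        simpa [hD] using (⟨hy, conjMap_eq_of_mem hH hxE ha hxne ▸ hc⟩ : y ∈ D))
    let f : (A ⧸ D.subgroupOf A) × {z : D // z ≠ 1} ⊕ (A ⧸ E.subgroupOf A) × {z : E // z ≠ 1}
        → {z : A // z ≠ 1} := Sum.elim
      (fun q => ⟨q.1.out * ⟨q.2.1, q.2.1.2.1⟩ * q.1.out⁻¹, by
        simp [Subtype.ext_iff, q.2.2]⟩)
      (fun q => ⟨q.1.out * ⟨q.2.1, q.2.1.2.1⟩ * q.1.out⁻¹, by
        simp [Subtype.ext_iff, q.2.2]⟩)
    have hf : Function.Injective f := by
      rintro (⟨q, z⟩ | ⟨q, z⟩) (⟨q', z'⟩ | ⟨q', z'⟩) he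
      all_goals
        have he' : (q.out : G) * z.1 * (q.out : G)⁻¹ = (q'.out : G) * z'.1 * (q'.out : G)⁻¹ :=
          congrArg (fun w : {z : A // z ≠ 1} => ((w.1 : A) : G)) he
      · obtain rfl := key D a rfl hDA q q' _ _ z.1.2 z'.1.2 (by simpa using z.2) he'
        obtain rfl : z = z' := Subtype.ext (Subtype.ext (mul_left_cancel (mul_right_cancel he')))
        rfl
      · exfalso
        have hz' : ((q'.out : A) : G)⁻¹ * (q.out : G) * z.1 * ((q.out : G)⁻¹ * (q'.out : G))
            ∈ E := by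
          have : ((q'.out : A) : G)⁻¹ * (q.out : G) * z.1 * ((q.out : G)⁻¹ * (q'.out : G))
              = z'.1 := by
            rw [show ((q'.out : A) : G)⁻¹ * (q.out : G) * z.1 * ((q.out : G)⁻¹ * (q'.out : G))
              = ((q'.out : A) : G)⁻¹ * ((q.out : G) * z.1 * (q.out : G)⁻¹) * (q'.out : G) by group,
              he']
            group
          rw [this]; exact z'.1.2
        set d := (q.out : A)⁻¹ * q'.out with hd
        have h1 : (z.1 : G) ∈ conjMap ((d : G) * c) H := by
          rw [← conjMap_mul, mem_conjMap]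
          simpa [hd, mul_assoc] using hz'.2
        have h3 := conjMap_eq_of_mem hH h1 z.1.2.2 (by simpa using z.2)
        refine hno d d.2 ⟨A.mul_mem (A.mul_mem d.2 hy) (A.inv_mem d.2), ?_⟩
        show (d : G) * y * (d : G)⁻¹ ∈ conjMap a H
        rw [← h3, ← conjMap_mul, mem_conjMap]
        simpa [mul_assoc] using hc
      · exfalso
        have hz' : ((q.out : A) : G)⁻¹ * (q'.out : G) * z'.1 * ((q'.out : G)⁻¹ * (q.out : G))
            ∈ E := by
          have : ((q.out : A) : G)⁻¹ * (q'.out : G) * z'.1 * ((q'.out : G)⁻¹ * (q.out : G))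
              = z.1 := by
            rw [show ((q.out : A) : G)⁻¹ * (q'.out : G) * z'.1 * ((q'.out : G)⁻¹ * (q.out : G))
              = ((q.out : A) : G)⁻¹ * ((q'.out : G) * z'.1 * (q'.out : G)⁻¹) * (q.out : G) by group,
              ← he']
            group
          rw [this]; exact z.1.2
        set d := (q'.out : A)⁻¹ * q.out with hd
        have h1 : (z'.1 : G) ∈ conjMap ((d : G) * c) H := by
          rw [← conjMap_mul, mem_conjMap]
          simpa [hd, mul_assoc] using hz'.2
        have h3 := conjMap_eq_of_mem hH h1 z'.1.2.2 (by simpa using z'.2)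
        refine hno d d.2 ⟨A.mul_mem (A.mul_mem d.2 hy) (A.inv_mem d.2), ?_⟩
        show (d : G) * y * (d : G)⁻¹ ∈ conjMap a H
        rw [← h3, ← conjMap_mul, mem_conjMap]
        simpa [mul_assoc] using hc
      · obtain rfl := key E c rfl hEA q q' _ _ z.1.2 z'.1.2 (by simpa using z.2) he'
        obtain rfl : z = z' := Subtype.ext (Subtype.ext (mul_left_cancel (mul_right_cancel he')))
        rfl
    have hcnt := Nat.card_le_card_of_injective f hf
    have hsub1 : ∀ J : Subgroup G, Nat.card {z : J // z ≠ 1} = Nat.card J - 1 := by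
      intro J
      haveI := Fintype.ofFinite J
      rw [Nat.card_eq_fintype_card, Nat.card_eq_fintype_card, Fintype.card_subtype_compl,
        Fintype.card_subtype_eq]
    rw [Nat.card_sum, Nat.card_prod, Nat.card_prod, hsub1, hsub1, hsub1, ← index_eq_card,
      ← index_eq_card] at hcnt
    have hD2 : 2 ≤ Nat.card D := D.one_lt_card_iff_ne_bot.mpr fun h =>
      hxne ((mem_bot).mp (h ▸ (⟨hb, ha⟩ : x ∈ D)))
    have hE2 : 2 ≤ Nat.card E := E.one_lt_card_iff_ne_bot.mpr fun h =>
      hy1 ((mem_bot).mp (h ▸ (⟨hy, hc⟩ : y ∈ E)))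
    have e1 : (D.subgroupOf A).index * Nat.card D = Nat.card A := by
      rw [← (D.subgroupOf A).index_mul_card,
        Nat.card_congr (subgroupOfEquivOfLe (inf_le_left : D ≤ A)).toEquiv]
    have e2 : (E.subgroupOf A).index * Nat.card E = Nat.card A := by
      rw [← (E.subgroupOf A).index_mul_card,
        Nat.card_congr (subgroupOfEquivOfLe (inf_le_left : E ≤ A)).toEquiv]
    have f1 : Nat.card A ≤ 2 * ((D.subgroupOf A).index * (Nat.card D - 1)) := by
      rw [← e1, mul_left_comm]; gcongr; omega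
    have f2 : Nat.card A ≤ 2 * ((E.subgroupOf A).index * (Nat.card E - 1)) := by
      rw [← e2, mul_left_comm]; gcongr; omega
    have hA0 : 1 ≤ Nat.card A := Nat.card_pos
    omega
  -- so some elements of `A` are kernel elements of `H`
  have hDA : D ≠ A := fun h => hin (h ▸ inf_le_right)
  have hcardA : Nat.card A = Nat.card H₀ := card_conjMap b H₀
  let W := {z : A // z ≠ 1 ∧ (z : G) ∈ frobeniusKernel H}
  have hW : 1 ≤ Nat.card W := by
    -- the conjugates of `D` do not cover `A`
    have hcov : ¬ ∀ z : A, z ≠ 1 → ∃ d ∈ A, d * (z : G) * d⁻¹ ∈ D := by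
      intro hall
      have hsurj : Function.Surjective (fun q : (A ⧸ D.subgroupOf A) × {w : D // w ≠ 1} =>
          (⟨q.1.out * ⟨q.2.1, q.2.1.2.1⟩ * q.1.out⁻¹, by simp [Subtype.ext_iff, q.2.2]⟩ :
            {z : A // z ≠ 1})) := by
        rintro ⟨z, hz⟩
        obtain ⟨d, hd, hdz⟩ := hall z hz
        let d' : A := ⟨d, hd⟩
        set q : A ⧸ D.subgroupOf A := (((d'⁻¹ : A)) : A ⧸ D.subgroupOf A) with hq
        obtain ⟨e, he⟩ := QuotientGroup.mk_out_eq_mul (D.subgroupOf A) (d'⁻¹)
        have heD : ((e : A) : G) ∈ D := mem_subgroupOf.mp e.2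
        have hmem : ((e : A) : G)⁻¹ * (d * z * d⁻¹) * (e : A) ∈ D :=
          mul_mem (mul_mem (inv_mem heD) hdz) heD
        refine ⟨(q, ⟨⟨_, hmem⟩, ?_⟩), ?_⟩
        · intro h
          have h' : ((e : A) : G)⁻¹ * (d * z * d⁻¹) * (e : A) = 1 := congrArg Subtype.val h
          have h2 : d * (z : G) * d⁻¹ = 1 := by
            have := congrArg (fun w => ((e : A) : G) * w * ((e : A) : G)⁻¹) h'
            simpa [mul_assoc] using this
          exact hz (Subtype.ext (conj_eq_one_iff.mp h2))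
        · apply Subtype.ext
          apply Subtype.ext
          simp only [hq, he, Subgroup.coe_mul, Subgroup.coe_inv, d']
          group
      have hcnt := Nat.card_le_card_of_surjective _ hsurj
      have hsub1 : ∀ J : Subgroup G, Nat.card {z : J // z ≠ 1} = Nat.card J - 1 := by
        intro J
        haveI := Fintype.ofFinite J
        rw [Nat.card_eq_fintype_card, Nat.card_eq_fintype_card, Fintype.card_subtype_compl,
          Fintype.card_subtype_eq]
      rw [Nat.card_prod, hsub1, hsub1, ← index_eq_card] at hcnt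
      have e1 : (D.subgroupOf A).index * Nat.card D = Nat.card A := by
        rw [← (D.subgroupOf A).index_mul_card,
          Nat.card_congr (subgroupOfEquivOfLe (inf_le_left : D ≤ A)).toEquiv]
      have hD1 : 1 ≤ Nat.card D := Nat.card_pos
      have hi2 : 2 ≤ (D.subgroupOf A).index := one_lt_index_of_ne_top fun h =>
        hDA (le_antisymm inf_le_left (subgroupOf_eq_top.mp h))
      have h4 : (D.subgroupOf A).index * Nat.card D
          = (D.subgroupOf A).index * (Nat.card D - 1) + (D.subgroupOf A).index := by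
        rw [← Nat.mul_succ, Nat.succ_eq_add_one, Nat.sub_add_cancel hD1]
      omega
    push Not at hcov
    obtain ⟨z, hz, hno⟩ := hcov
    haveI : Nonempty W := ⟨⟨z, hz, Or.inr fun c hc => by
      obtain ⟨d, hd, hdz⟩ := hAne z z.2 (by simpa using hz) c hc
      exact hno d hd hdz⟩⟩
    exact Nat.card_pos
  -- every conjugate of `H₀` contributes, which is too much
  let g : (G ⧸ H₀) × W → {z : G // z ∈ frobeniusKernel H ∧ z ≠ 1} := fun q =>
    ⟨q.1.out * b⁻¹ * (q.2.1 : G) * (q.1.out * b⁻¹)⁻¹, conj_mem_kernel q.2.2.2,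
      fun h => q.2.2.1 (Subtype.ext (conj_eq_one_iff.mp h))⟩
  have hg : Function.Injective g := by
    rintro ⟨q, w⟩ ⟨q', w'⟩ he
    have he' : q.out * b⁻¹ * (w.1 : G) * (q.out * b⁻¹)⁻¹
        = q'.out * b⁻¹ * (w'.1 : G) * (q'.out * b⁻¹)⁻¹ := congrArg Subtype.val he
    have h1 : ∀ (r : G ⧸ H₀) (v : W),
        r.out * b⁻¹ * (v.1 : G) * (r.out * b⁻¹)⁻¹ ∈ conjMap r.out H₀ := fun r v => by
      rw [mem_conjMap]
      have := mem_conjMap.mp (v.1.2 : (v.1 : G) ∈ conjMap b H₀)
      simpa [mul_assoc] using this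
    have hm := inter_trivial hH₀ (h1 q w) (he' ▸ h1 q' w')
      (fun h => w.2.1 (Subtype.ext (conj_eq_one_iff.mp h)))
    have hq : q = q' := by
      have := QuotientGroup.eq.mpr hm
      rwa [QuotientGroup.out_eq', QuotientGroup.out_eq'] at this
    subst hq
    obtain rfl : w = w' := Subtype.ext (Subtype.ext (mul_left_cancel (mul_right_cancel he')))
    rfl
  have hcnt := Nat.card_le_card_of_injective g hg
  rw [Nat.card_prod, ← index_eq_card] at hcnt
  have hker : Nat.card {z : G // z ∈ frobeniusKernel H ∧ z ≠ 1} + 1 = H.index := by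
    rw [← card_kernel hH]
    have he : Set.ncard (frobeniusKernel H \ {1})
        = Nat.card {z : G // z ∈ frobeniusKernel H ∧ z ≠ 1} := by
      rw [← Nat.card_coe_set_eq]
      exact Nat.card_congr (Equiv.subtypeEquivRight fun z => by simp)
    rw [← he, Nat.card_coe_set_eq,
      Set.ncard_sdiff_singleton_add_one one_mem_kernel (Set.toFinite _)]
  have : H₀.index ≤ H₀.index * Nat.card W := Nat.le_mul_of_pos_right _ hW
  omega

theorem isFrobeniusComplement_iff_fpf [Finite G] {K : Subgroup G} [K.Normal]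
    (hc : K.IsComplement' H) (hK : K ≠ ⊥) (hH : H ≠ ⊥) :
    IsFrobeniusComplement H ↔ ∀ h ∈ H, h ≠ 1 → K ⊓ centralizer {h} = ⊥ := by
  constructor
  · intro hF h hh h1
    rw [eq_bot_iff]
    rintro x ⟨hxK, hxC⟩
    have hxH := mem_of_commute hF hh h1 (mem_centralizer_singleton_iff.mp hxC)
    exact disjoint_def.mp hc.disjoint hxK hxH
  · intro hfpf
    refine ⟨hH, fun h => hK ?_, fun g hg => ?_⟩
    · have hd := hc.disjoint.eq_bot
      rwa [h, inf_top_eq] at hd
    rw [eq_bot_iff]
    rintro x ⟨hx, hxg⟩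
    rw [mem_bot]
    by_contra hx1
    obtain ⟨⟨k, h⟩, hkh : (k : G) * h = g⟩ := hc.2 g
    have hx2 : g⁻¹ * x * g ∈ H := mem_conjMap.mp hxg
    set y := (h : G) * (g⁻¹ * x * g) * (h : G)⁻¹ with hy
    have hyH : y ∈ H := mul_mem (mul_mem h.2 hx2) (inv_mem h.2)
    have hxy : x = k * y * (k : G)⁻¹ := by rw [hy, ← hkh]; group
    -- modulo `K` the two elements of `H` agree
    have hK' : x * y⁻¹ ∈ K := by
      rw [hxy, show (k : G) * y * (k : G)⁻¹ * y⁻¹ = k * (y * (k : G)⁻¹ * y⁻¹) by group]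
      exact mul_mem k.2 (Subgroup.Normal.conj_mem inferInstance _ (inv_mem k.2) y)
    have h1 := disjoint_def.mp hc.disjoint hK' (mul_mem hx (inv_mem hyH))
    rw [mul_inv_eq_one] at h1
    rw [← h1] at hxy
    have hk : (k : G) ∈ K ⊓ centralizer {x} :=
      ⟨k.2, mem_centralizer_singleton_iff.mpr (mul_inv_eq_iff_eq_mul.mp hxy.symm)⟩
    rw [hfpf x hx hx1, mem_bot] at hk
    exact hg (by rw [← hkh, hk, one_mul]; exact h.2)

theorem normal_eq_kernel [Finite G] (hH : IsFrobeniusComplement H) {K : Subgroup G} [K.Normal]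
    (hc : K.IsComplement' H) : (K : Set G) = frobeniusKernel H := by
  refine Set.eq_of_subset_of_ncard_le (fun x hx => ?_) ?_ (Set.toFinite _)
  · by_cases h1 : x = 1
    · exact Or.inl h1
    refine Or.inr fun g hg => h1 ?_
    have h2 := mem_conjMap.mp (show x ∈ conjMap g H from hg)
    have h3 : g⁻¹ * x * g ∈ K := Subgroup.Normal.conj_mem' inferInstance x hx g
    have := disjoint_def.mp hc.disjoint h3 h2
    rw [mul_assoc, inv_mul_eq_one] at this
    simpa using this.symm
  · rw [← Nat.card_coe_set_eq, ← Nat.card_coe_set_eq, card_kernel hH, hc.index_eq_card]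
    exact le_rfl

end Cfsg.Lib.Frobenius
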