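/-
Frobenius groups from fixed-point-free actions; finite subgroups of division rings.
-/
import Cfsg.Agent.Frobenius.Complement

set_option linter.style.haveILetI false
set_option linter.unusedSectionVars false

namespace Cfsg.Lib.Frobenius.DivRing

open Subgroup

universe u v

/-- The property of being a Frobenius complement, up to isomorphism. -/
def Occurs (G : Type u) [Group G] : Prop :=
  ∃ (L : Type) (_ : Group L) (_ : Finite L) (H : Subgroup L), Cfsg.IsFrobeniusComplement H ∧ Nonempty (G ≃* H)

theorem Occurs.congr {G : Type u} [Group G] {G' : Type v} [Group G'] (e : G ≃* G') (h : Occurs G) : Occurs G' := by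
  obtain ⟨L, i1, i2, H, hH, ⟨f⟩⟩ := h
  exact ⟨L, i1, i2, H, hH, ⟨e.symm.trans f⟩⟩

theorem isFrobeniusComplement_map {L L' : Type*} [Group L] [Group L'] (e : L ≃* L') {H : Subgroup L}
    (h : Cfsg.IsFrobeniusComplement H) : Cfsg.IsFrobeniusComplement (H.map e.toMonoidHom) := by
  refine ⟨fun h0 => h.1 ?_, fun h0 => h.2.1 ?_, fun g hg => ?_⟩
  · exact (Subgroup.map_eq_bot_iff_of_injective H e.injective).1 h0
  · rw [← Subgroup.map_top_of_surjective e.toMonoidHom e.surjective] at h0
    exact Subgroup.map_injective e.injective h0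
  · obtain ⟨g, rfl⟩ := e.surjective g
    have hg' : g ∉ H := fun hh => hg ⟨g, hh, rfl⟩
    rw [eq_bot_iff_forall]
    intro y hy
    obtain ⟨⟨x, hx, rfl⟩, z, ⟨w, hw, rfl⟩, hz⟩ := Subgroup.mem_inf.1 hy
    have e1 : e (g * w * g⁻¹) = e x := by rw [map_mul, map_mul, map_inv]; exact hz
    have := (eq_bot_iff_forall _).1 (h.2.2 g hg') x
      (Subgroup.mem_inf.mpr ⟨hx, w, hw, e.injective e1⟩)
    rw [this, map_one]

theorem occurs_of_fpf_mulAut {G : Type u} [Group G] [Finite G] [Nontrivial G] {N : Type v} [Group N] [Finite N]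
    [Nontrivial N] (φ : G →* MulAut N) (hfpf : ∀ g : G, g ≠ 1 → ∀ x : N, φ g x = x → x = 1) : Occurs G := by
  let X := SemidirectProduct N G φ
  haveI : Finite X := Finite.of_equiv (N × G) SemidirectProduct.equivProd.symm
  let K := (SemidirectProduct.inl : N →* X).range
  let H := (SemidirectProduct.inr : G →* X).range
  haveI : K.Normal := by
    show (SemidirectProduct.inl : N →* X).range.Normal
    rw [SemidirectProduct.range_inl_eq_ker_rightHom]; infer_instance
  have hc : K.IsComplement' H := by
    refine Subgroup.isComplement'_of_disjoint_and_mul_eq_univ ?_ ?_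
    · rw [disjoint_iff, eq_bot_iff_forall]
      intro x hx
      obtain ⟨⟨a, rfl⟩, b, hb⟩ := Subgroup.mem_inf.1 hx
      have := congrArg SemidirectProduct.left hb
      simp only [SemidirectProduct.left_inl, SemidirectProduct.left_inr] at this
      rw [← this, map_one]
    · rw [Set.eq_univ_iff_forall]
      intro x
      exact ⟨_, ⟨x.left, rfl⟩, _, ⟨x.right, rfl⟩, SemidirectProduct.inl_left_mul_inr_right x⟩
  have hKne : K ≠ ⊥ := fun h => by
    obtain ⟨a, ha⟩ := exists_ne (1 : N)
    have := (eq_bot_iff_forall _).1 h _ ⟨a, rfl⟩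
    exact ha (SemidirectProduct.inl_injective (this.trans (map_one _).symm))
  have hHne : H ≠ ⊥ := fun h => by
    obtain ⟨a, ha⟩ := exists_ne (1 : G)
    have := (eq_bot_iff_forall _).1 h _ ⟨a, rfl⟩
    exact ha (SemidirectProduct.inr_injective (this.trans (map_one _).symm))
  have hF : Cfsg.IsFrobeniusComplement H := by
    refine (Cfsg.Lib.Frobenius.isFrobeniusComplement_iff_fpf hc hKne hHne).2 ?_
    rintro _ ⟨g, rfl⟩ hg
    rw [eq_bot_iff_forall]
    intro z hz
    obtain ⟨⟨a, rfl⟩, hza⟩ := Subgroup.mem_inf.1 hz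
    have h1 := congrArg SemidirectProduct.left (mem_centralizer_singleton_iff.1 hza)
    simp at h1
    rw [hfpf g (fun h => hg (by rw [h, map_one])) a h1.symm, map_one]
  -- move to the smallest universe
  obtain ⟨n, ⟨e₀⟩⟩ := Finite.exists_equiv_fin X
  let e : X ≃ {i : Fin n // True} := e₀.trans (Equiv.subtypeUnivEquiv fun _ => trivial).symm
  letI : Group {i : Fin n // True} := e.symm.group
  let e' : X ≃* {i : Fin n // True} := e.symm.mulEquiv.symm
  refine ⟨{i : Fin n // True}, inferInstance, inferInstance, H.map e'.toMonoidHom, isFrobeniusComplement_map e' hF, ⟨?_⟩⟩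
  exact (MonoidHom.ofInjective (f := (SemidirectProduct.inr : G →* X)) SemidirectProduct.inr_injective).trans
    (H.equivMapOfInjective e'.toMonoidHom e'.injective)

theorem occurs_of_fpf {G : Type u} [Group G] [Finite G] [Nontrivial G] {V : Type v} [AddCommGroup V] [Finite V]
    [Nontrivial V] (ρ : G →* AddMonoid.End V) (hfpf : ∀ g : G, g ≠ 1 → ∀ x : V, ρ g x = x → x = 0) : Occurs G := by
  let φ : G →* MulAut (Multiplicative V) :=
    { toFun := fun g =>
        { toFun := fun x => Multiplicative.ofAdd (ρ g x.toAdd)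
          invFun := fun x => Multiplicative.ofAdd (ρ g⁻¹ x.toAdd)
          left_inv := fun x => by
            show Multiplicative.ofAdd (ρ g⁻¹ (ρ g x.toAdd)) = x
            rw [← Function.comp_apply (f := ρ g⁻¹), ← AddMonoid.End.coe_mul, ← map_mul, inv_mul_cancel, map_one]
            rfl
          right_inv := fun x => by
            show Multiplicative.ofAdd (ρ g (ρ g⁻¹ x.toAdd)) = x
            rw [← Function.comp_apply (f := ρ g), ← AddMonoid.End.coe_mul, ← map_mul, mul_inv_cancel, map_one]
            rfl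
          map_mul' := fun x y => by
            show Multiplicative.ofAdd (ρ g (x.toAdd + y.toAdd)) = _
            rw [map_add]; rfl }
      map_one' := by
        ext x
        show Multiplicative.ofAdd (ρ 1 x.toAdd) = x
        rw [map_one]; rfl
      map_mul' := fun a b => by
        ext x
        show Multiplicative.ofAdd (ρ (a * b) x.toAdd) = Multiplicative.ofAdd (ρ a (ρ b x.toAdd))
        rw [map_mul]; rfl }
  exact occurs_of_fpf_mulAut φ fun g hg x hx =>
    Multiplicative.toAdd.injective (hfpf g hg x.toAdd (congrArg Multiplicative.toAdd hx))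

theorem occurs_of_divisionRing {D : Type u} [DivisionRing D] (H : Subgroup Dˣ) [Finite H] (hH : H ≠ ⊥) :
    Occurs H := by
  haveI : Nontrivial H := (Subgroup.nontrivial_iff_ne_bot H).2 hH
  let S : AddSubgroup D := AddSubgroup.closure (Set.range fun h : H => ((h : Dˣ) : D))
  have hmul : ∀ (h : H) (x : D), x ∈ S → ((h : Dˣ) : D) * x ∈ S := by
    intro h x hx
    induction hx using AddSubgroup.closure_induction with
    | mem y hy =>
      obtain ⟨k, rfl⟩ := hy
      exact AddSubgroup.subset_closure ⟨h * k, by simp⟩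
    | zero => rw [mul_zero]; exact zero_mem S
    | add y z _ _ h1 h2 => rw [mul_add]; exact add_mem h1 h2
    | neg y _ h1 => rw [mul_neg]; exact neg_mem h1
  let ρ : H →* AddMonoid.End S :=
    { toFun := fun h => AddMonoidHom.mk' (fun x => ⟨((h : Dˣ) : D) * x, hmul h x x.2⟩)
        (fun x y => Subtype.ext (mul_add _ _ _))
      map_one' := by
        ext x
        show ((((1 : H) : Dˣ) : D)) * (x : D) = x
        simp
      map_mul' := fun a b => by
        ext x
        show (((a * b : H) : Dˣ) : D) * (x : D) = ((a : Dˣ) : D) * (((b : Dˣ) : D) * x)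
        simp [mul_assoc] }
  have hne : ∀ h : H, h ≠ 1 → ((h : Dˣ) : D) - 1 ≠ 0 := fun h hh e =>
    hh (Subtype.ext (Units.ext (sub_eq_zero.1 e)))
  have hfix : ∀ h : H, h ≠ 1 → ∀ x : S, ρ h x = x → x = 0 := by
    intro h hh x hx
    have h1 : (((h : Dˣ) : D) - 1) * (x : D) = 0 := by
      rw [sub_mul, one_mul, sub_eq_zero]
      exact congrArg Subtype.val hx
    exact Subtype.ext ((mul_eq_zero.1 h1).resolve_left (hne h hh))
  have hone : (1 : D) ∈ S := AddSubgroup.subset_closure ⟨1, by simp⟩
  haveI : Nontrivial S := ⟨⟨1, hone⟩, 0, fun e => one_ne_zero (congrArg Subtype.val e)⟩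
  haveI : AddGroup.FG S := (AddGroup.fg_iff_addSubgroup_fg S).2
    ((AddSubgroup.fg_iff S).2 ⟨_, rfl, Set.finite_range _⟩)
  haveI : Module.Finite ℤ S := Module.Finite.iff_addGroup_fg.2 inferInstance
  rcases (ringChar D).eq_zero_or_pos with h0 | hpos
  · haveI : CharP D 0 := h0 ▸ ringChar.charP D
    haveI : CharZero D := CharP.charP_to_charZero D
    haveI : Module.IsTorsionFree ℤ S := inferInstance
    haveI : Module.Free ℤ S := inferInstance
    obtain ⟨l, hl, hlp⟩ := Nat.exists_infinite_primes (Nat.card H + 1)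
    haveI := Fact.mk hlp
    let T : AddSubgroup S := (DistribSMul.toAddMonoidHom S l).range
    have hTinv : ∀ (h : H), T ≤ T.comap (ρ h) := by
      rintro h _ ⟨y, rfl⟩
      exact ⟨ρ h y, (map_nsmul (ρ h) l y).symm⟩
    let σ : H →* AddMonoid.End (S ⧸ T) :=
      { toFun := fun h => QuotientAddGroup.map T T (ρ h) (hTinv h)
        map_one' := by
          apply AddMonoidHom.ext
          intro x
          induction x using QuotientAddGroup.induction_on with | H y =>
          show (QuotientAddGroup.mk (ρ 1 y) : S ⧸ T) = QuotientAddGroup.mk y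
          rw [map_one]; rfl
        map_mul' := fun a b => by
          apply AddMonoidHom.ext
          intro x
          induction x using QuotientAddGroup.induction_on with | H y =>
          show (QuotientAddGroup.mk (ρ (a * b) y) : S ⧸ T) = QuotientAddGroup.mk (ρ a (ρ b y))
          rw [map_mul]; rfl }
    haveI : AddGroup.FG (S ⧸ T) := AddGroup.fg_of_surjective (f := QuotientAddGroup.mk' T) (QuotientAddGroup.mk'_surjective T)
    have hl0 : ∀ z : S ⧸ T, l • z = 0 := by
      intro z
      induction z using QuotientAddGroup.induction_on with | H y =>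
      rw [← QuotientAddGroup.mk_nsmul, QuotientAddGroup.eq_zero_iff]
      exact ⟨y, rfl⟩
    haveI : Finite (S ⧸ T) := AddCommGroup.finite_of_fg_isAddTorsion _ fun z =>
      isOfFinAddOrder_iff_nsmul_eq_zero.2 ⟨l, hlp.pos, hl0 z⟩
    haveI : Nontrivial (S ⧸ T) := by
      let b := Module.Free.chooseBasis ℤ S
      obtain ⟨i⟩ : Nonempty (Module.Free.ChooseBasisIndex ℤ S) := b.index_nonempty
      refine ⟨⟨QuotientAddGroup.mk (b i), 0, fun e => ?_⟩⟩
      obtain ⟨y, hy⟩ := (QuotientAddGroup.eq_zero_iff _).1 e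
      have h1 := congrArg (fun z => b.repr z i) hy
      simp only [DistribSMul.toAddMonoidHom_apply, map_nsmul, Finsupp.smul_apply, Module.Basis.repr_self,
        Finsupp.single_eq_same, nsmul_eq_mul] at h1
      have h2 : (l : ℤ) ∣ 1 := ⟨_, h1.symm⟩
      exact hlp.ne_one (Nat.dvd_one.1 (Int.natCast_dvd_natCast.1 h2))
    refine occurs_of_fpf σ fun g hg z hz => ?_
    obtain ⟨q, hq, hqd⟩ := Nat.exists_prime_and_dvd (fun h => hg (orderOf_eq_one_iff.1 h))
    set g' := g ^ (orderOf g / q)
    have ho : orderOf g' = q := orderOf_pow_orderOf_div (orderOf_pos g).ne' hqd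
    have hz' : ∀ i : ℕ, σ (g' ^ i) z = z := by
      intro i
      rw [← pow_mul]
      induction (orderOf g / q * i) with
      | zero => rw [pow_zero, map_one]; rfl
      | succ m ih =>
        rw [pow_succ, map_mul]
        show σ (g ^ m) (σ g z) = z
        rw [hz, ih]
    induction z using QuotientAddGroup.induction_on with | H y =>
    have hsum : ∑ i ∈ Finset.range q, ρ (g' ^ i) y = 0 := by
      apply Subtype.ext
      rw [AddSubgroup.val_finset_sum, ZeroMemClass.coe_zero]
      show ∑ i ∈ Finset.range q, (((g' ^ i : H) : Dˣ) : D) * (y : D) = 0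
      have h1 : (∑ i ∈ Finset.range q, (((g' : Dˣ) : D)) ^ i) * (((g' : Dˣ) : D) - 1) = 0 := by
        rw [geom_sum_mul, ← Units.val_pow_eq_pow_val, ← SubgroupClass.coe_pow, ← ho, pow_orderOf_eq_one]
        simp
      have h2 := (mul_eq_zero.1 h1).resolve_right (hne g' fun e => hq.ne_one (by rw [← ho, e, orderOf_one]))
      rw [← Finset.sum_mul]
      simp only [SubgroupClass.coe_pow, Units.val_pow_eq_pow_val]
      rw [h2, zero_mul]
    have hq0 : q • (QuotientAddGroup.mk y : S ⧸ T) = 0 := by
      have h3 := congrArg (QuotientAddGroup.mk' T) hsum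
      rw [map_sum, map_zero] at h3
      rw [← h3, ← Finset.card_range q, ← Finset.sum_const, Finset.card_range]
      exact Finset.sum_congr rfl fun i _ => (hz' i).symm
    have hcop : Nat.Coprime q l := (Nat.coprime_primes hq hlp).2 fun e => by
      have := Nat.le_of_dvd Nat.card_pos (hqd.trans (orderOf_dvd_natCard g))
      omega
    have h4 : addOrderOf (QuotientAddGroup.mk y : S ⧸ T) = 1 :=
      Nat.eq_one_of_dvd_coprimes hcop (addOrderOf_dvd_of_nsmul_eq_zero hq0) (addOrderOf_dvd_of_nsmul_eq_zero (hl0 _))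
    exact AddMonoid.addOrderOf_eq_one_iff.1 h4
  · haveI := ringChar.charP D
    haveI : Finite S := AddCommGroup.finite_of_fg_isAddTorsion _ fun z =>
      isOfFinAddOrder_iff_nsmul_eq_zero.2 ⟨ringChar D, hpos, Subtype.ext (by
        rw [AddSubgroup.coe_nsmul, nsmul_eq_mul, CharP.cast_eq_zero, zero_mul, ZeroMemClass.coe_zero])⟩
    exact occurs_of_fpf ρ hfix

end Cfsg.Lib.Frobenius.DivRing
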