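import Cfsg.Agent.Frobenius.UniqueSubgroup
import Cfsg.Agent.Thompson.FixedPointFree

/-!
Groups acting fixed-point-freely by conjugation: coprimality, no non-cyclic abelian subgroups,
Sylow structure, groups of order `pq`.
-/

set_option linter.style.haveILetI false
set_option linter.unusedSectionVars false

namespace Cfsg.Lib.Frobenius

open Subgroup

universe u

variable {G : Type u} [Group G] [Finite G] {A V : Subgroup G}

/-- `A` acts fixed-point-freely on `V` by conjugation. -/
def Fpf (A V : Subgroup G) : Prop := ∀ a ∈ A, a ≠ 1 → V ⊓ centralizer {a} = ⊥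

theorem Fpf.eq_one (h : Fpf A V) {a v : G} (ha : a ∈ A) (ha1 : a ≠ 1) (hv : v ∈ V)
    (hc : a * v = v * a) : v = 1 := by
  have : v ∈ V ⊓ centralizer {a} := ⟨hv, mem_centralizer_singleton_iff.mpr hc.symm⟩
  rwa [h a ha ha1, mem_bot] at this

theorem Fpf.mono (h : Fpf A V) {B : Subgroup G} (hB : B ≤ A) : Fpf B V :=
  fun a ha => h a (hB ha)

theorem Fpf.card_dvd (hAV : A ≤ normalizer (V : Set G)) (h : Fpf A V) :
    Nat.card A ∣ Nat.card V - 1 := by
  classical
  let Y := {x : G // x ∈ V ∧ x ≠ 1}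
  letI : MulAction A Y :=
    { smul := fun a y => ⟨(a : G) * y.1 * (a : G)⁻¹, (mem_normalizer_iff.mp (hAV a.2) _).mp y.2.1,
        fun he => y.2.2 (conj_eq_one_iff.mp he)⟩
      one_smul := fun y => Subtype.ext (by show ((1 : A) : G) * _ * _ = _; simp)
      mul_smul := fun a b y => Subtype.ext (by
        show ((a * b : A) : G) * y.1 * ((a * b : A) : G)⁻¹
          = (a : G) * ((b : G) * y.1 * (b : G)⁻¹) * (a : G)⁻¹
        simp [mul_assoc]) }
  have hfree : ∀ y : Y, MulAction.stabilizer A y = ⊥ := by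
    intro y
    rw [eq_bot_iff]
    intro a ha
    rw [Subgroup.mem_bot]
    by_contra h1
    have he : (a : G) * y.1 * (a : G)⁻¹ = y.1 := congrArg Subtype.val ha
    exact y.2.2 (h.eq_one a.2 (fun e => h1 (Subtype.ext e)) y.2.1 (mul_inv_eq_iff_eq_mul.mp he))
  haveI := Fintype.ofFinite G
  haveI := Fintype.ofFinite A
  have hc : Nat.card Y = Nat.card (MulAction.orbitRel.Quotient A Y) * Nat.card A := by
    rw [Nat.card_congr (MulAction.selfEquivSigmaOrbitsQuotientStabilizer A Y), Nat.card_sigma]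
    simp only [Nat.card_eq_fintype_card, ← Finset.card_univ]
    rw [Finset.sum_const_nat]
    intro ω _
    rw [Finset.card_univ, ← Nat.card_eq_fintype_card, hfree]
    rw [Nat.card_congr (QuotientGroup.quotientBot (G := A)).toEquiv, Nat.card_eq_fintype_card,
      Finset.card_univ]
  have hY : Nat.card Y + 1 = Nat.card V := by
    have he : Set.ncard ((V : Set G) \ {1}) = Nat.card Y := by
      rw [← Nat.card_coe_set_eq]
      exact Nat.card_congr (Equiv.subtypeEquivRight fun x => by simp)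
    rw [← he, Set.ncard_sdiff_singleton_add_one (one_mem V) (Set.toFinite _),
      ← Nat.card_coe_set_eq]
    rfl
  exact ⟨Nat.card (MulAction.orbitRel.Quotient A Y), by rw [← hY, hc]; simp [mul_comm]⟩

theorem Fpf.coprime (hAV : A ≤ normalizer (V : Set G)) (h : Fpf A V) :
    (Nat.card A).Coprime (Nat.card V) := by
  obtain ⟨c, hc⟩ := h.card_dvd hAV
  refine Nat.coprime_of_dvd fun q hq ha hv => hq.not_dvd_one ?_
  have h1 : q ∣ Nat.card V - 1 := hc ▸ ha.mul_right c
  have h2 : 0 < Nat.card V := Nat.card_pos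
  have := Nat.dvd_sub hv h1
  rwa [show Nat.card V - (Nat.card V - 1) = 1 by omega] at this

theorem Fpf.isCyclic_of_comm [IsMulCommutative A] (hAV : A ≤ normalizer (V : Set G)) (h : Fpf A V)
    (hV : V ≠ ⊥) : IsCyclic A := by
  by_contra hA
  refine hV (eq_bot_iff.mpr ?_)
  rw [← Cfsg.Lib.Coprime.centralizerJoin_eq hA hAV (h.coprime hAV)]
  exact iSup₂_le fun a ha => (h a ha.1 ha.2).le

/-- Two elements of prime order `p` generating commuting cyclic groups generate the same one. -/
theorem Fpf.mem_zpowers_of_commute (hAV : A ≤ normalizer (V : Set G)) (h : Fpf A V) (hV : V ≠ ⊥)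
    {p : ℕ} (hp : p.Prime) {x y : G} (hx : x ∈ A) (hy : y ∈ A) (hox : orderOf x = p)
    (hoy : orderOf y = p) (hc : x * y = y * x) : y ∈ zpowers x := by
  haveI := Fact.mk hp
  have hBA : closure {x, y} ≤ A := (closure_le A).mpr (by
    rintro z (rfl | rfl)
    · exact hx
    · exact hy)
  haveI : IsMulCommutative (closure ({x, y} : Set G)) :=
    isMulCommutative_closure (by
      rintro a (rfl | rfl) b (rfl | rfl)
      · rfl
      · exact hc
      · exact hc.symm
      · rfl)
  have hcyc := (h.mono hBA).isCyclic_of_comm (hBA.trans hAV) hV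
  obtain ⟨g, hg⟩ := hcyc.exists_generator
  have hgp : g ^ p = 1 := by
    have hle : closure ({x, y} : Set G) ≤ centralizer {x} ⊓ centralizer {y} := (closure_le _).mpr (by
      rintro z (rfl | rfl) <;>
        simp [mem_centralizer_singleton_iff, hc])
    have key : ∀ z ∈ closure ({x, y} : Set G), z ^ p = 1 := by
      intro z hz
      induction hz using closure_induction with
      | mem z hz =>
        rcases hz with rfl | rfl
        · rw [← hox, pow_orderOf_eq_one]
        · rw [← hoy, pow_orderOf_eq_one]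
      | one => exact one_pow p
      | mul a b ha hb iha ihb =>
        have hab : Commute a b := congrArg Subtype.val
          (mul_comm' (⟨a, ha⟩ : closure ({x, y} : Set G)) ⟨b, hb⟩)
        rw [hab.mul_pow, iha, ihb, one_mul]
      | inv a _ iha => rw [inv_pow, iha, inv_one]
    exact Subtype.ext (key g g.2)
  have heq : zpowers x = closure ({x, y} : Set G) := by
    refine eq_of_le_of_card_ge (zpowers_le.mpr (subset_closure (by simp))) ?_
    rw [Nat.card_zpowers, hox, ← orderOf_eq_card_of_forall_mem_zpowers hg]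
    exact Nat.le_of_dvd hp.pos (orderOf_dvd_of_pow_eq_one hgp)
  rw [heq]
  exact subset_closure (by simp)

/-- A `p`-subgroup has only one subgroup of order `p`. -/
theorem Fpf.unique (hAV : A ≤ normalizer (V : Set G)) (h : Fpf A V) (hV : V ≠ ⊥) {p : ℕ}
    [hp : Fact p.Prime] (hA : IsPGroup p A) :
    ∀ x y : A, orderOf x = p → orderOf y = p → y ∈ zpowers x := by
  intro x y hx hy
  haveI : Nontrivial A := ⟨⟨x, 1, fun e => hp.out.one_lt.ne (by rw [← hx, e, orderOf_one])⟩⟩
  haveI := hA.center_nontrivial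
  obtain ⟨k, hk0, hk⟩ := (hA.to_subgroup (Subgroup.center A)).nontrivial_iff_card.mp inferInstance
  obtain ⟨⟨z, hzc⟩, hz⟩ := exists_prime_orderOf_dvd_card' (G := Subgroup.center A) p
    (by rw [hk]; exact dvd_pow_self p (by omega))
  rw [Subgroup.orderOf_mk] at hz
  have key : ∀ w : A, orderOf w = p → zpowers (w : G) = zpowers (z : G) := fun w hw => by
    have hm : (w : G) ∈ zpowers (z : G) := h.mem_zpowers_of_commute hAV hV hp.out z.2 w.2
      (by rw [Subgroup.orderOf_coe, hz]) (by rw [Subgroup.orderOf_coe, hw])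
      (congrArg Subtype.val (mem_center_iff.mp hzc w)).symm
    exact eq_of_le_of_card_ge (zpowers_le.mpr hm)
      (by rw [Nat.card_zpowers, Nat.card_zpowers, Subgroup.orderOf_coe, Subgroup.orderOf_coe, hw, hz])
  have : (y : G) ∈ zpowers (x : G) := by rw [key x hx, ← key y hy]; exact mem_zpowers _
  obtain ⟨n, hn⟩ := mem_zpowers_iff.mp this
  exact mem_zpowers_iff.mpr ⟨n, Subtype.ext (by simpa using hn)⟩

/-- Sylow structure. -/
theorem Fpf.isCyclic_or_quaternion (hAV : A ≤ normalizer (V : Set G)) (h : Fpf A V) (hV : V ≠ ⊥)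
    {p : ℕ} [hp : Fact p.Prime] (hA : IsPGroup p A) :
    IsCyclic A ∨ (p = 2 ∧ ∃ n : ℕ, Nonempty (A ≃* QuaternionGroup (2 ^ n))) :=
  Cfsg.Lib.UniqueSub.isCyclic_or_quaternion hA (h.unique hAV hV hA)

/-- For `V` abelian an element of prime order centralises every subgroup of `A` of prime order
which it normalises. -/
theorem Fpf.commute_of_normalizes [IsMulCommutative V] (hAV : A ≤ normalizer (V : Set G))
    (h : Fpf A V) (hV : V ≠ ⊥) {q p : ℕ} (hq : q.Prime) (hp : p.Prime) {a y : G} (ha : a ∈ A)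
    (hy : y ∈ A) (hoa : orderOf a = q) (hoy : orderOf y = p)
    (hnorm : a * y * a⁻¹ ∈ zpowers y) : a * y = y * a := by
  by_contra hne
  have ha1 : a ≠ 1 := fun e => hne (by rw [e, one_mul, mul_one])
  set S := V ⊔ zpowers y with hS
  have hyV : zpowers y ≤ normalizer (V : Set G) := (zpowers_le.mpr hy).trans hAV
  have haS : ∀ s ∈ S, a * s * a⁻¹ ∈ S := by
    intro s hs
    obtain ⟨v, hv, w, hw, rfl⟩ := (Cfsg.Lib.Coprime.mem_sup_of_le_normalizer hyV).mp hs
    obtain ⟨k, rfl⟩ := mem_zpowers_iff.mp hw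
    rw [show a * (v * y ^ k) * a⁻¹ = (a * v * a⁻¹) * (a * y ^ k * a⁻¹) by group, ← conj_zpow]
    exact mul_mem (mem_sup_left ((mem_normalizer_iff.mp (hAV ha) v).mp hv))
      (mem_sup_right (zpow_mem hnorm k))
  let φ : S →* S := MonoidHom.mk' (fun s => ⟨a * s * a⁻¹, haS s s.2⟩)
    fun s t => Subtype.ext (by simp [mul_assoc])
  have hfpf : MonoidHom.FixedPointFree φ := by
    rintro ⟨s, hs⟩ he
    have hc : a * s * a⁻¹ = s := congrArg Subtype.val he
    obtain ⟨v, hv, w, hw, rfl⟩ := (Cfsg.Lib.Coprime.mem_sup_of_le_normalizer hyV).mp hs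
    have hw' : a * w * a⁻¹ ∈ zpowers y := by
      obtain ⟨k, rfl⟩ := mem_zpowers_iff.mp hw
      rw [← conj_zpow]; exact zpow_mem hnorm k
    have hdiff : (a * w * a⁻¹) * w⁻¹ = (a * v * a⁻¹)⁻¹ * v := by
      calc (a * w * a⁻¹) * w⁻¹ = (a * v * a⁻¹)⁻¹ * (a * (v * w) * a⁻¹) * w⁻¹ := by group
        _ = (a * v * a⁻¹)⁻¹ * v := by rw [hc]; group
    have h1 : (a * w * a⁻¹) * w⁻¹ = 1 := by
      have hmV : (a * w * a⁻¹) * w⁻¹ ∈ V :=
        hdiff ▸ mul_mem (inv_mem ((mem_normalizer_iff.mp (hAV ha) v).mp hv)) hv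
      have hmY : (a * w * a⁻¹) * w⁻¹ ∈ zpowers y := mul_mem hw' (inv_mem hw)
      by_contra h1
      have hm1 : (a * w * a⁻¹) * w⁻¹ = 1 :=
        h.eq_one ((zpowers_le.mpr hy) hmY) h1 hmV rfl
      exact h1 hm1
    rw [h1, eq_comm, inv_mul_eq_one] at hdiff
    rw [mul_inv_eq_one, mul_inv_eq_iff_eq_mul] at h1
    have hv1 : v = 1 := h.eq_one ha ha1 hv (mul_inv_eq_iff_eq_mul.mp hdiff)
    subst hv1
    refine Subtype.ext ?_
    show 1 * w = 1
    rw [one_mul]
    by_contra hw1
    refine hne ?_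
    have hy' : zpowers w = zpowers y := by
      refine eq_of_le_of_card_ge (zpowers_le.mpr hw) ?_
      rw [Nat.card_zpowers, Nat.card_zpowers, hoy]
      have hd : orderOf w ∣ p := by
        rw [← hoy]; exact orderOf_dvd_of_mem_zpowers hw
      rcases (Nat.dvd_prime hp).mp hd with e | e
      · exact absurd (orderOf_eq_one_iff.mp e) hw1
      · exact e.ge
    obtain ⟨k, hk⟩ := mem_zpowers_iff.mp (hy'.ge (mem_zpowers y))
    rw [← hk]
    exact ((show Commute a w from h1).zpow_right k).eq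
  have hiter : ∀ (n : ℕ) (s : S), ((φ^[n] s : S) : G) = a ^ n * (s : G) * (a ^ n)⁻¹ := by
    intro n s
    induction n with
    | zero => simp
    | succ n ih =>
      rw [Function.iterate_succ_apply']
      show a * ((φ^[n] s : S) : G) * a⁻¹ = _
      rw [ih, pow_succ']; group
  have hr : φ^[q] = _root_.id := funext fun s => Subtype.ext (by
    rw [hiter, ← hoa, pow_orderOf_eq_one]; simp)
  have hmapV : (V.subgroupOf S).map φ = V.subgroupOf S :=
    Cfsg.Lib.Thompson.map_eq_of_le (Cfsg.Lib.Thompson.injective_of_iterate hr hq.pos) (by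
      rintro _ ⟨s, hs, rfl⟩
      exact (mem_normalizer_iff.mp (hAV ha) _).mp hs)
  have hmapY : ((zpowers y).subgroupOf S).map φ = (zpowers y).subgroupOf S :=
    Cfsg.Lib.Thompson.map_eq_of_le (Cfsg.Lib.Thompson.injective_of_iterate hr hq.pos) (by
      rintro _ ⟨s, hs, rfl⟩
      obtain ⟨k, hk⟩ := mem_zpowers_iff.mp (mem_subgroupOf.mp hs)
      show a * (s : G) * a⁻¹ ∈ zpowers y
      rw [← hk, ← conj_zpow]; exact zpow_mem hnorm k)
  haveI : (V.subgroupOf S).Normal :=
    normal_subgroupOf_iff_le_normalizer le_sup_left |>.mpr (sup_le le_normalizer hyV)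
  haveI : IsMulCommutative (V.subgroupOf S) :=
    ⟨⟨fun s t => Subtype.ext (Subtype.ext (show ((s : S) : G) * ((t : S) : G) = (t : S) * (s : S) from
      congrArg Subtype.val (mul_comm' (⟨((s : S) : G), s.2⟩ : V) ⟨((t : S) : G), t.2⟩)))⟩⟩
  have hbot := Cfsg.Lib.Thompson.eq_bot_of_inf_centralizer_eq_bot hfpf hr hq (V := V.subgroupOf S)
    (Q := (zpowers y).subgroupOf S) hmapV hmapY ?_ ?_
  · rw [subgroupOf_eq_bot] at hbot
    exact hV (eq_bot_iff.mpr fun v hv => (disjoint_def.mp hbot hv (mem_sup_left hv)).symm ▸ one_mem _)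
  · rw [Nat.card_congr (subgroupOfEquivOfLe (le_sup_right : zpowers y ≤ S)).toEquiv,
      Nat.card_congr (subgroupOfEquivOfLe (le_sup_left : V ≤ S)).toEquiv]
    exact (h.mono (zpowers_le.mpr hy)).coprime hyV
  · rw [eq_bot_iff]
    rintro s ⟨hs, hsc⟩
    rw [mem_bot]
    have hy1 : y ≠ 1 := fun e => hne (by rw [e, one_mul, mul_one])
    refine Subtype.ext (h.eq_one hy hy1 hs ?_)
    exact congrArg Subtype.val (mem_centralizer_iff.mp hsc ⟨y, mem_sup_right (mem_zpowers y)⟩
      (mem_zpowers y))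

/-- Groups of order `pq` acting fixed-point-freely on an abelian group are cyclic. -/
theorem Fpf.isCyclic_of_card_mul [IsMulCommutative V] (hAV : A ≤ normalizer (V : Set G))
    (h : Fpf A V) (hV : V ≠ ⊥) {p q : ℕ} (hp : p.Prime) (hq : q.Prime)
    (hA : Nat.card A = p * q) : IsCyclic A := by
  wlog hle : q ≤ p generalizing p q
  · exact this hq hp (by rw [hA, mul_comm]) (le_of_not_ge hle)
  haveI := Fact.mk hp
  haveI := Fact.mk hq
  rcases eq_or_lt_of_le hle with rfl | hlt
  · haveI : IsMulCommutative A := ⟨⟨fun a b => by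
      have hA2 : Nat.card A = q ^ 2 := by rw [hA, pow_two]
      exact (IsPGroup.isMulCommutative_of_card_eq_prime_sq hA2).is_comm.comm a b⟩⟩
    exact h.isCyclic_of_comm hAV hV
  obtain ⟨⟨y, hyA⟩, hy⟩ := exists_prime_orderOf_dvd_card' (G := A) p (hA ▸ dvd_mul_right p q)
  obtain ⟨⟨a, haA⟩, ha⟩ := exists_prime_orderOf_dvd_card' (G := A) q (hA ▸ dvd_mul_left q p)
  rw [Subgroup.orderOf_mk] at hy ha
  haveI hn : ((zpowers y).subgroupOf A).Normal := by
    refine normal_of_index_eq_minFac_card ?_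
    have hidx : ((zpowers y).subgroupOf A).index = q := by
      have h1 := ((zpowers y).subgroupOf A).card_mul_index
      rw [Nat.card_congr (subgroupOfEquivOfLe (zpowers_le.mpr hyA)).toEquiv, Nat.card_zpowers, hy,
        hA] at h1
      exact Nat.eq_of_mul_eq_mul_left hp.pos h1
    rw [hidx, hA]
    refine le_antisymm ?_ (Nat.minFac_le_of_dvd hq.two_le (dvd_mul_left q p))
    have hne1 : p * q ≠ 1 := (Nat.one_lt_mul_iff.mpr ⟨hp.pos, hq.pos, Or.inl hp.one_lt⟩).ne'
    have hm := Nat.minFac_prime hne1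
    rcases hm.dvd_mul.mp (Nat.minFac_dvd (p * q)) with h' | h'
    · rw [(Nat.prime_dvd_prime_iff_eq hm hp).mp h']; exact hle
    · rw [(Nat.prime_dvd_prime_iff_eq hm hq).mp h']
  have hnorm : a * y * a⁻¹ ∈ zpowers y :=
    hn.conj_mem ⟨y, hyA⟩ (mem_subgroupOf.mpr (mem_zpowers y)) ⟨a, haA⟩
  have hc : Commute a y := h.commute_of_normalizes hAV hV hq hp haA hyA ha hy hnorm
  refine isCyclic_of_orderOf_eq_card (⟨a, haA⟩ * ⟨y, hyA⟩ : A) ?_
  rw [← Subgroup.orderOf_coe, Subgroup.coe_mul, hc.orderOf_mul_eq_mul_orderOf_of_coprime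
    (by rw [ha, hy]; exact (Nat.coprime_primes hq hp).mpr hlt.ne), ha, hy, hA, mul_comm]

end Cfsg.Lib.Frobenius
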