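/-
A direct product is a Frobenius complement iff the factors are and their orders are coprime.

The bridge is an elementary criterion: a finite group occurs as a Frobenius complement iff there is a
rational function `ψ` with `ψ 1 ≠ 0` summing to zero on every left translate of a subgroup of prime order.
-/
import Cfsg.Agent.Frobenius.DivisionRing
import Cfsg.Agent.Frobenius.Kernel
import Cfsg.Agent.Frobenius.FpfGroups
import Mathlib.RepresentationTheory.Maschke
import Mathlib.RingTheory.Idempotents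

set_option linter.style.haveILetI false
set_option linter.unusedSectionVars false

universe u v

namespace Cfsg.Lib.Frobenius.ProductComplement

open Subgroup Finset Cfsg.Lib.Frobenius.DivRing

/-- sums over translates of subgroups of prime order vanish -/
def SumZero (G : Type u) [Group G] {R : Type*} [AddCommMonoid R] (ψ : G → R) : Prop :=
  ∀ c : G, (orderOf c).Prime → ∀ z : G, ∑ i ∈ range (orderOf c), ψ (c ^ i * z) = 0

def Crit (G : Type u) [Group G] : Prop := ∃ ψ : G → ℚ, ψ 1 ≠ 0 ∧ SumZero G ψ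

theorem Crit.comap {G : Type u} [Group G] {H : Type v} [Group H] (f : H →* G) (hf : Function.Injective f)
    (h : Crit G) : Crit H := by
  obtain ⟨ψ, h1, hs⟩ := h
  refine ⟨fun x => ψ (f x), by simpa using h1, fun c hc z => ?_⟩
  have := hs (f c) (by rwa [orderOf_injective f hf]) (f z)
  rw [orderOf_injective f hf] at this
  simpa [map_mul, map_pow] using this

theorem Crit.prod {A : Type u} [Group A] [Finite A] {B : Type v} [Group B] [Finite B]
    (hcop : (Nat.card A).Coprime (Nat.card B)) (hA : Crit A) (hB : Crit B) : Crit (A × B) := by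
  obtain ⟨f, hf1, hf⟩ := hA
  obtain ⟨g, hg1, hg⟩ := hB
  refine ⟨fun x => f x.1 * g x.2, mul_ne_zero hf1 hg1, ?_⟩
  rintro ⟨a, b⟩ hc ⟨x, y⟩
  have ha : orderOf a ∣ orderOf (a, b) := orderOf_map_dvd (MonoidHom.fst A B) (a, b)
  have hb : orderOf b ∣ orderOf (a, b) := orderOf_map_dvd (MonoidHom.snd A B) (a, b)
  rcases hc.eq_one_or_self_of_dvd _ ha with ha1 | hap
  · obtain rfl := orderOf_eq_one_iff.1 ha1
    have h2 : orderOf ((1 : A), b) = orderOf b := by simp [Prod.orderOf]
    rw [h2] at hc ⊢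
    simp only [Prod.pow_mk, one_pow, Prod.mk_mul_mk, one_mul, ← mul_sum, hg b hc y, mul_zero]
  · rcases hc.eq_one_or_self_of_dvd _ hb with hb1 | hbp
    · obtain rfl := orderOf_eq_one_iff.1 hb1
      have h2 : orderOf (a, (1 : B)) = orderOf a := by simp [Prod.orderOf]
      rw [h2] at hc ⊢
      simp only [Prod.pow_mk, one_pow, Prod.mk_mul_mk, one_mul, ← sum_mul, hf a hc x, zero_mul]
    · exfalso
      have h1 := hc.ne_one
      exact h1 (Nat.eq_one_of_dvd_coprimes hcop (hap ▸ orderOf_dvd_natCard a) (hbp ▸ orderOf_dvd_natCard b))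

theorem Crit.coprime {A : Type u} [Group A] [Finite A] {B : Type v} [Group B] [Finite B]
    (h : Crit (A × B)) : (Nat.card A).Coprime (Nat.card B) := by
  obtain ⟨ψ, h1, hs⟩ := h
  refine Nat.coprime_of_dvd fun p hp hpA hpB => h1 ?_
  haveI := Fact.mk hp
  obtain ⟨a, ha⟩ := exists_prime_orderOf_dvd_card' p hpA
  obtain ⟨b, hb⟩ := exists_prime_orderOf_dvd_card' p hpB
  have hap : a ^ p = 1 := ha ▸ pow_orderOf_eq_one a
  have hbp : ∀ k : ℕ, (b ^ k) ^ p = 1 := fun k => by
    rw [← pow_mul, mul_comm, pow_mul, ← hb, pow_orderOf_eq_one, one_pow]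
  have hab : ∀ k : ℕ, orderOf (a, b ^ k) = p := fun k =>
    orderOf_eq_prime (Prod.ext hap (hbp k))
      (fun e => hp.ne_one (ha.symm.trans (orderOf_eq_one_iff.2 (congrArg Prod.fst e))))
  have h0 : ∑ k ∈ range p, ∑ i ∈ range p, ψ (a ^ i, b ^ (k * i)) = 0 := by
    refine sum_eq_zero fun k _ => ?_
    have := hs (a, b ^ k) (by rw [hab k]; exact hp) 1
    rw [hab k] at this
    simpa [← pow_mul] using this
  rw [sum_comm, sum_eq_single 0 (fun i hi hi0 => ?_) (fun h => absurd (mem_range.2 hp.pos) h)] at h0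
  · simp only [pow_zero, mul_zero, sum_const, card_range, nsmul_eq_mul, mul_eq_zero, Nat.cast_eq_zero,
      hp.ne_zero, false_or] at h0
    exact h0
  · have hbi : orderOf ((1 : A), b ^ i) = p := by
      refine orderOf_eq_prime (Prod.ext (one_pow p) (hbp i)) ?_
      intro e
      have := orderOf_dvd_of_pow_eq_one (congrArg Prod.snd e : b ^ i = 1)
      rw [hb] at this
      exact absurd (Nat.le_of_dvd (Nat.pos_of_ne_zero hi0) this) (not_le.2 (mem_range.1 hi))
    have := hs ((1 : A), b ^ i) (by rw [hbi]; exact hp) (a ^ i, 1)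
    rw [hbi] at this
    simpa [← pow_mul, mul_comm i] using this

theorem Crit.occurs {G : Type u} [Group G] [Finite G] [Nontrivial G] (h : Crit G) : Occurs G := by
  classical
  haveI := Fintype.ofFinite G
  obtain ⟨ψ, h1, hs⟩ := h
  obtain ⟨l, hl, hlp⟩ := Nat.exists_infinite_primes (Nat.card G + 1)
  haveI := Fact.mk hlp
  -- an integral solution not divisible by `l`
  let P : ℕ → Prop := fun n => ∃ φ : G → ℤ, φ ≠ 0 ∧ SumZero G φ ∧ ∑ g, (φ g).natAbs = n
  have hex : ∃ n, P n := by
    obtain ⟨m, hm⟩ := IsLocalization.exist_integer_multiples_of_finite (nonZeroDivisors ℤ) ψ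
    choose φ hφ using hm
    have hval : ∀ g, (φ g : ℚ) = ((m : ℤ) : ℚ) * ψ g := fun g => by
      have := hφ g
      simp only [Algebra.smul_def] at this
      simpa using this
    refine ⟨_, φ, fun e => h1 ?_, fun c hc z => ?_, rfl⟩
    · have := hval 1
      rw [e] at this
      simpa [nonZeroDivisors.coe_ne_zero m] using this.symm
    · have : ((∑ i ∈ range (orderOf c), φ (c ^ i * z) : ℤ) : ℚ) = 0 := by
        push_cast
        simp only [hval, ← mul_sum, hs c hc z, mul_zero]
      exact_mod_cast this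
  obtain ⟨φ, hφ0, hφ, hφn⟩ := Nat.find_spec hex
  have hndiv : ∃ g, ¬ ((l : ℤ) ∣ φ g) := by
    by_contra! hd
    choose χ hχ using hd
    have hl0 : (l : ℤ) ≠ 0 := by exact_mod_cast hlp.ne_zero
    have hχ0 : χ ≠ 0 := fun e => hφ0 (funext fun g => by simp [hχ g, e])
    obtain ⟨g₀, hg₀⟩ := Function.ne_iff.1 hχ0
    have hlt : ∑ g, (χ g).natAbs < Nat.find hex := by
      rw [← hφn]
      refine sum_lt_sum (fun g _ => ?_) ⟨g₀, mem_univ _, ?_⟩
      · rw [hχ g, Int.natAbs_mul, Int.natAbs_natCast]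
        exact Nat.le_mul_of_pos_left _ hlp.pos
      · rw [hχ g₀, Int.natAbs_mul, Int.natAbs_natCast]
        exact lt_mul_of_one_lt_left (Int.natAbs_pos.2 hg₀) hlp.one_lt
    refine Nat.find_min hex hlt ⟨χ, hχ0, fun c hc z => ?_, rfl⟩
    have := hφ c hc z
    simp only [hχ, ← mul_sum, mul_eq_zero, hl0, false_or] at this
    exact this
  -- the module over the prime field
  let V : AddSubgroup (G → ZMod l) :=
    { carrier := {f | SumZero G f}
      add_mem' := fun {f g} hf hg c hc z => by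
        simp only [Pi.add_apply, sum_add_distrib]; rw [hf c hc z, hg c hc z, add_zero]
      zero_mem' := fun c _ z => by simp
      neg_mem' := fun {f} hf c hc z => by simp only [Pi.neg_apply, sum_neg_distrib]; rw [hf c hc z, neg_zero] }
  haveI : Nontrivial V := by
    obtain ⟨g, hg⟩ := hndiv
    refine ⟨⟨⟨fun x => (φ x : ZMod l), fun c hc z => ?_⟩, 0, fun e => hg ?_⟩⟩
    · rw [← Int.cast_sum, hφ c hc z, Int.cast_zero]
    · exact (ZMod.intCast_zmod_eq_zero_iff_dvd _ _).1 (congrFun (congrArg Subtype.val e) g)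
  let ρ : G →* AddMonoid.End V :=
    { toFun := fun g => AddMonoidHom.mk' (fun f => ⟨fun z => (f : G → ZMod l) (z * g), fun c hc z => by
          simpa [mul_assoc] using f.2 c hc (z * g)⟩) (fun f f' => Subtype.ext (funext fun z => rfl))
      map_one' := by ext f z; show (f : G → ZMod l) (z * 1) = _; rw [mul_one]; rfl
      map_mul' := fun a b => by ext f z; show (f : G → ZMod l) (z * (a * b)) = (f : G → ZMod l) (z * a * b); rw [mul_assoc] }
  refine occurs_of_fpf ρ fun g hg f hf => ?_
  have hinv : ∀ (i : ℕ) (z : G), (f : G → ZMod l) (z * g ^ i) = (f : G → ZMod l) z := by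
    intro i
    induction i with
    | zero => simp
    | succ i ih =>
      intro z
      rw [pow_succ, ← mul_assoc]
      exact (congrFun (congrArg Subtype.val hf) (z * g ^ i)).trans (ih z)
  obtain ⟨q, hq, hqd⟩ := Nat.exists_prime_and_dvd (show orderOf g ≠ 1 by simpa using hg)
  set c := g ^ (orderOf g / q) with hc
  have hoc : orderOf c = q := orderOf_pow_orderOf_div (orderOf_pos g).ne' hqd
  ext z
  have := f.2 (z * c * z⁻¹) (by rw [← MulAut.conj_apply, MulEquiv.orderOf_eq, hoc]; exact hq) z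
  rw [← MulAut.conj_apply, MulEquiv.orderOf_eq, hoc] at this
  simp only [MulAut.conj_apply, conj_pow, inv_mul_cancel_right, hc, ← pow_mul, hinv, sum_const, card_range,
    nsmul_eq_mul, mul_eq_zero] at this
  rcases this with h | h
  · exfalso
    rw [ZMod.natCast_eq_zero_iff, Nat.prime_dvd_prime_iff_eq hlp hq] at h
    have := Nat.le_of_dvd Nat.card_pos (hqd.trans (orderOf_dvd_natCard g))
    omega
  · simpa using h

/-- from a fixed-point-free module over `ZMod r` to solutions modulo every power of `r` -/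
theorem exists_modular {G : Type u} [Group G] [Finite G] {r : ℕ} [Fact r.Prime] (hr : ¬ r ∣ Nat.card G)
    {V : Type v} [AddCommGroup V] (hexp : ∀ x : V, r • x = 0) [Nontrivial V] (ρ : G →* AddMonoid.End V)
    (hfpf : ∀ g : G, g ≠ 1 → ∀ x : V, ρ g x = x → x = 0) (n : ℕ) :
    ∃ ψ : G → ZMod (r ^ (n + 1)), IsUnit (ψ 1) ∧ SumZero G ψ := by
  classical
  haveI : NeZero (Nat.card G : ZMod r) := ⟨by rwa [Ne, ZMod.natCast_eq_zero_iff]⟩
  let π₀ : ZMod (r ^ (n + 1)) →+* ZMod r := ZMod.castHom (dvd_pow_self r n.succ_ne_zero) (ZMod r)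
  let π : (MonoidAlgebra (ZMod (r ^ (n + 1))) G) →+* (MonoidAlgebra (ZMod r) G) := MonoidAlgebra.mapRingHom G π₀
  have hπc : ∀ (x : (MonoidAlgebra (ZMod (r ^ (n + 1))) G)) (g : G), (π x).coeff g = π₀ (x.coeff g) := fun x g => MonoidAlgebra.coeff_mapRingHom _ _ _
  -- every element killed by `π` is a multiple of `r`
  have hker : ∀ x : (MonoidAlgebra (ZMod (r ^ (n + 1))) G), π x = 0 → ∃ w : (MonoidAlgebra (ZMod (r ^ (n + 1))) G), x = (r : (MonoidAlgebra (ZMod (r ^ (n + 1))) G)) * w := by
    intro x hx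
    have h : ∀ g, ∃ w, x.coeff g = (r : ZMod (r ^ (n + 1))) * w := by
      intro g
      have h0 : π₀ (x.coeff g) = 0 := by rw [← hπc, hx]; simp
      obtain ⟨k, hk⟩ := ZMod.natCast_zmod_surjective (x.coeff g)
      rw [← hk, map_natCast, ZMod.natCast_eq_zero_iff] at h0
      obtain ⟨w, rfl⟩ := h0
      exact ⟨w, by rw [← hk, Nat.cast_mul]⟩
    choose w hw using h
    refine ⟨MonoidAlgebra.ofCoeff (Finsupp.equivFunOnFinite.symm w), ?_⟩
    ext g
    rw [MonoidAlgebra.natCast_def, MonoidAlgebra.coeff_single_mul_apply, inv_one, one_mul, hw]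
    rfl
  have hnil : ∀ x ∈ RingHom.ker π, IsNilpotent x := by
    intro x hx
    obtain ⟨w, rfl⟩ := hker x hx
    refine ⟨n + 1, ?_⟩
    rw [(Nat.cast_commute r w).mul_pow, ← Nat.cast_pow]
    have : ((r ^ (n + 1) : ℕ) : (MonoidAlgebra (ZMod (r ^ (n + 1))) G)) = 0 := by
      rw [MonoidAlgebra.natCast_def, ZMod.natCast_self, MonoidAlgebra.single_zero]
    rw [this, zero_mul]
  -- a complement of the annihilator of `V`
  haveI : CharP (AddMonoid.End V) r := ⟨fun x => ⟨fun h => by
      obtain ⟨v, hv⟩ := exists_ne (0 : V)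
      rw [← addOrderOf_eq_prime (hexp v) hv]
      refine addOrderOf_dvd_of_nsmul_eq_zero ?_
      have h1 : (x : AddMonoid.End V) v = 0 := by rw [h]; rfl
      simpa using h1,
    fun ⟨k, hk⟩ => by
      ext v
      rw [hk, mul_comm]
      simp [mul_smul, hexp v]⟩⟩
  let f₀ : ZMod r →+* AddMonoid.End V := ZMod.castHom dvd_rfl _
  let Ψ : (MonoidAlgebra (ZMod r) G) →+* AddMonoid.End V := MonoidAlgebra.liftNCRingHom f₀ ρ fun a g => by
    rw [← ZMod.natCast_zmod_val a, map_natCast]
    exact Nat.cast_commute _ _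
  let I : Submodule (MonoidAlgebra (ZMod r) G) (MonoidAlgebra (ZMod r) G) := RingHom.ker Ψ
  obtain ⟨L, hL⟩ := exists_isCompl I
  obtain ⟨i, hi, e, he, hie⟩ : ∃ i ∈ I, ∃ e ∈ L, i + e = 1 := Submodule.mem_sup.1 (hL.sup_eq_top ▸ Submodule.mem_top)
  have hdisj : ∀ y, y ∈ I → y ∈ L → y = 0 := fun y h h' => Submodule.disjoint_def.1 hL.disjoint y h h'
  have hLe : ∀ l ∈ L, l * e = l := by
    intro l hl
    have h1 : l * i + l * e = l := by rw [← mul_add, hie, mul_one]
    have h2 : l * e ∈ L := L.smul_mem l he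
    have h3 : l * i ∈ I := I.smul_mem l hi
    have h4 : l * i ∈ L := by rw [eq_sub_of_add_eq h1]; exact L.sub_mem hl h2
    rw [hdisj _ h3 h4, zero_add] at h1
    exact h1
  have he0 : e ≠ 0 := by
    rintro rfl
    rw [add_zero] at hie
    have h1 : Ψ 1 = 0 := by rw [← hie]; exact hi
    obtain ⟨x, hx⟩ := exists_ne (0 : V)
    rw [map_one] at h1
    exact hx (DFunLike.congr_fun h1 x)
  obtain ⟨f, hff, hfe⟩ := exists_isIdempotentElem_eq_of_ker_isNilpotent π hnil e
    (by
      choose u hu using fun g => ZMod.ringHom_surjective π₀ (e.coeff g)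
      refine ⟨MonoidAlgebra.ofCoeff (Finsupp.equivFunOnFinite.symm u), ?_⟩
      ext g
      rw [hπc]
      exact hu g) (hLe e he)
  -- the key vanishing
  have hkey : ∀ c : G, (orderOf c).Prime →
      (∑ k ∈ range (orderOf c), MonoidAlgebra.single (c ^ k) (1 : ZMod (r ^ (n + 1)))) * f = 0 := by
    intro c hc
    set q := orderOf c with hq
    set E : (MonoidAlgebra (ZMod (r ^ (n + 1))) G) := ∑ k ∈ range q, MonoidAlgebra.single (c ^ k) 1 with hE
    have hEE : E * E = (q : (MonoidAlgebra (ZMod (r ^ (n + 1))) G)) * E := by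
      have h1 : ∀ j, MonoidAlgebra.single (c ^ j) (1 : ZMod (r ^ (n + 1))) * E = E := by
        intro j
        induction j with
        | zero => rw [pow_zero, ← MonoidAlgebra.one_def, one_mul]
        | succ j ih =>
          rw [pow_succ c j, show MonoidAlgebra.single (c ^ j * c) (1 : ZMod (r ^ (n + 1))) =
            MonoidAlgebra.single (c ^ j) 1 * MonoidAlgebra.single c 1 by simp, mul_assoc]
          have : MonoidAlgebra.single c (1 : ZMod (r ^ (n + 1))) * E = E := by
            rw [hE, mul_sum]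
            simp only [MonoidAlgebra.single_mul_single, mul_one, ← pow_succ']
            have h2 := sum_range_succ' (fun k => MonoidAlgebra.single (c ^ k) (1 : ZMod (r ^ (n + 1)))) q
            rw [sum_range_succ, pow_zero, hq, pow_orderOf_eq_one] at h2
            exact add_right_cancel h2.symm
          rw [this, ih]
      conv_lhs => lhs; rw [hE]
      rw [sum_mul, sum_congr rfl (fun j _ => h1 j), sum_const, card_range, nsmul_eq_mul]
    have hEI : π E ∈ I := by
      show Ψ (π E) = 0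
      ext x
      simp only [hE, π, map_sum, MonoidAlgebra.mapRingHom_single, map_one, Ψ, MonoidAlgebra.liftNCRingHom_single,
        one_mul, AddMonoidHom.finsetSum_apply, AddMonoidHom.zero_apply]
      refine hfpf c (fun h => hc.ne_one (by rw [hq, h, orderOf_one])) _ ?_
      have hS : ρ c * (∑ k ∈ range q, ρ (c ^ k)) = ∑ k ∈ range q, ρ (c ^ k) := by
        rw [mul_sum]
        simp only [← map_mul, ← pow_succ']
        have h2 := sum_range_succ' (fun k => ρ (c ^ k)) q
        rw [sum_range_succ, pow_zero, hq, pow_orderOf_eq_one] at h2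
        exact add_right_cancel h2.symm
      exact DFunLike.congr_fun hS x
    -- `E z f` is a multiple of `r`
    have hbase : ∀ z : (MonoidAlgebra (ZMod (r ^ (n + 1))) G), ∃ w, E * (z * f) = (r : (MonoidAlgebra (ZMod (r ^ (n + 1))) G)) * w := by
      intro z
      refine hker _ (hdisj _ ?_ ?_)
      · show Ψ (π (E * (z * f))) = 0
        rw [map_mul π, map_mul Ψ, show Ψ (π E) = 0 from hEI, zero_mul]
      · rw [map_mul, map_mul, hfe]
        exact L.smul_mem _ (L.smul_mem _ he)
    have hu : IsUnit ((q : ℕ) : (MonoidAlgebra (ZMod (r ^ (n + 1))) G)) := by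
      have : IsUnit ((q : ℕ) : ZMod (r ^ (n + 1))) := (ZMod.isUnit_iff_coprime _ _).2
        (Nat.Coprime.pow_right _ ((Nat.coprime_primes hc Fact.out).2 fun e => hr (e ▸ orderOf_dvd_natCard c)))
      simpa using this.map (MonoidAlgebra.singleOneRingHom (R := ZMod (r ^ (n + 1))) (M := G))
    have hpow : ∀ j, ∃ z, E * f = (r : (MonoidAlgebra (ZMod (r ^ (n + 1))) G)) ^ j * z := by
      intro j
      induction j with
      | zero => exact ⟨E * f, by rw [pow_zero, one_mul]⟩
      | succ j ih =>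
        obtain ⟨z, hz⟩ := ih
        obtain ⟨w, hw⟩ := hbase z
        obtain ⟨u, hu⟩ := hu
        have hcom : Commute E ((r : (MonoidAlgebra (ZMod (r ^ (n + 1))) G)) ^ j) := ((Nat.cast_commute r E).pow_left j).symm
        have h1 : (q : (MonoidAlgebra (ZMod (r ^ (n + 1))) G)) * (E * f) = (r : (MonoidAlgebra (ZMod (r ^ (n + 1))) G)) ^ (j + 1) * w := by
          calc (q : (MonoidAlgebra (ZMod (r ^ (n + 1))) G)) * (E * f) = E * (E * f * f) := by
                rw [mul_assoc E f f, hff.eq, ← mul_assoc, ← hEE, mul_assoc]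
            _ = E * ((r : (MonoidAlgebra (ZMod (r ^ (n + 1))) G)) ^ j * (z * f)) := by rw [hz, mul_assoc]
            _ = (r : (MonoidAlgebra (ZMod (r ^ (n + 1))) G)) ^ j * (E * (z * f)) := by rw [← mul_assoc, hcom.eq, mul_assoc]
            _ = _ := by rw [hw, pow_succ (r : MonoidAlgebra (ZMod (r ^ (n + 1))) G) j, mul_assoc]
        refine ⟨(↑u⁻¹ : (MonoidAlgebra (ZMod (r ^ (n + 1))) G)) * w, ?_⟩
        rw [← hu] at h1
        rw [← mul_assoc, ((Nat.cast_commute r (↑u⁻¹ : (MonoidAlgebra (ZMod (r ^ (n + 1))) G))).pow_left _).eq, mul_assoc, ← h1, Units.inv_mul_cancel_left]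
    obtain ⟨z, hz⟩ := hpow (n + 1)
    rw [hz, ← Nat.cast_pow]
    have : ((r ^ (n + 1) : ℕ) : (MonoidAlgebra (ZMod (r ^ (n + 1))) G)) = 0 := by
      rw [MonoidAlgebra.natCast_def, ZMod.natCast_self, MonoidAlgebra.single_zero]
    rw [this, zero_mul]
  -- a unit coefficient
  obtain ⟨g, hg⟩ : ∃ g, e.coeff g ≠ 0 := by
    by_contra! h
    exact he0 (MonoidAlgebra.ext (Finsupp.ext h))
  refine ⟨fun z => f.coeff (z * g), ?_, fun c hc z => ?_⟩
  · show IsUnit (f.coeff (1 * g))
    rw [one_mul]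
    obtain ⟨k, hk⟩ := ZMod.natCast_zmod_surjective (f.coeff g)
    rw [← hk, ZMod.isUnit_iff_coprime]
    refine Nat.Coprime.pow_right _ (((Fact.out : r.Prime).coprime_iff_not_dvd.2 fun hd => hg ?_).symm)
    rw [← hfe, hπc, ← hk, map_natCast, ZMod.natCast_eq_zero_iff]
    exact hd
  · have h1 := congrArg (fun x : (MonoidAlgebra (ZMod (r ^ (n + 1))) G) => x.coeff (z * g)) (hkey c⁻¹ (by rwa [orderOf_inv]))
    simp only [sum_mul, orderOf_inv, MonoidAlgebra.coeff_sum, Finset.sum_apply', MonoidAlgebra.coeff_single_mul_apply,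
      one_mul, inv_pow, inv_inv, ← mul_assoc, MonoidAlgebra.coeff_zero, Finsupp.coe_zero, Pi.zero_apply] at h1
    exact h1

theorem crit_of_modular {G : Type u} [Group G] [Finite G] {r : ℕ} (hr : r.Prime)
    (h : ∀ n : ℕ, ∃ ψ : G → ZMod (r ^ (n + 1)), IsUnit (ψ 1) ∧ SumZero G ψ) : Crit G := by
  classical
  haveI := Fintype.ofFinite G
  by_contra hno
  let ι := {c : G // (orderOf c).Prime} × G
  let L : ι → (G → ℚ) →ₗ[ℚ] ℚ := fun x => ∑ i ∈ range (orderOf (x.1 : G)), LinearMap.proj ((x.1 : G) ^ i * x.2)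
  have hmem : (LinearMap.proj 1 : (G → ℚ) →ₗ[ℚ] ℚ) ∈ Submodule.span ℚ (Set.range L) := by
    refine mem_span_of_iInf_ker_le_ker fun ψ hψ => ?_
    rw [Submodule.mem_iInf] at hψ
    by_contra hne
    exact hno ⟨ψ, hne, fun c hc z => by simpa [L] using hψ (⟨c, hc⟩, z)⟩
  obtain ⟨a, ha⟩ := (Submodule.mem_span_range_iff_exists_fun ℚ).1 hmem
  obtain ⟨m, hm⟩ := IsLocalization.exist_integer_multiples_of_finite (nonZeroDivisors ℤ) a
  choose k hk using hm
  have hkval : ∀ x, (k x : ℚ) = ((m : ℤ) : ℚ) * a x := fun x => by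
    have := hk x
    simp only [Algebra.smul_def] at this
    simpa using this
  -- integer identity
  have hid : ∀ g : G, ∑ x : ι, k x * (∑ i ∈ range (orderOf (x.1 : G)), if (x.1 : G) ^ i * x.2 = g then 1 else 0) =
      if (1 : G) = g then (m : ℤ) else 0 := by
    intro g
    have h1 := LinearMap.congr_fun ha (Pi.single g 1)
    simp only [L, LinearMap.sum_apply, LinearMap.smul_apply, LinearMap.proj_apply, Pi.single_apply, smul_eq_mul] at h1
    have h2 : ((∑ x : ι, k x * (∑ i ∈ range (orderOf (x.1 : G)), if (x.1 : G) ^ i * x.2 = g then 1 else 0) : ℤ) : ℚ) =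
        ((if (1 : G) = g then (m : ℤ) else 0 : ℤ) : ℚ) := by
      push_cast
      simp only [hkval, mul_assoc, ← mul_sum, h1]
      split_ifs <;> simp
    exact_mod_cast h2
  obtain ⟨n, hn⟩ : ∃ n, (m : ℤ).natAbs < r ^ (n + 1) :=
    ⟨(m : ℤ).natAbs, (Nat.lt_succ_self _).trans (Nat.lt_pow_self hr.one_lt)⟩
  obtain ⟨ψ, hu, hs⟩ := h n
  have hz : ((m : ℤ) : ZMod (r ^ (n + 1))) * ψ 1 = 0 := by
    calc ((m : ℤ) : ZMod (r ^ (n + 1))) * ψ 1
        = ∑ g : G, ((if (1 : G) = g then (m : ℤ) else 0 : ℤ) : ZMod (r ^ (n + 1))) * ψ g := by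
          rw [Finset.sum_eq_single 1 (fun g _ hg => by simp [Ne.symm hg]) (by simp)]; simp
      _ = ∑ g : G, ∑ x : ι, ∑ i ∈ range (orderOf (x.1 : G)),
            (k x : ZMod (r ^ (n + 1))) * (if (x.1 : G) ^ i * x.2 = g then ψ g else 0) := by
          refine sum_congr rfl fun g _ => ?_
          rw [← hid g]
          push_cast
          rw [sum_mul]
          refine sum_congr rfl fun x _ => ?_
          rw [mul_sum, sum_mul]
          exact sum_congr rfl fun i _ => by split_ifs <;> simp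
      _ = ∑ x : ι, (k x : ZMod (r ^ (n + 1))) * ∑ i ∈ range (orderOf (x.1 : G)), ψ ((x.1 : G) ^ i * x.2) := by
          rw [sum_comm]
          refine sum_congr rfl fun x _ => ?_
          rw [sum_comm, mul_sum]
          exact sum_congr rfl fun i _ => by simp [← mul_sum]
      _ = 0 := sum_eq_zero fun x _ => by rw [hs x.1 x.1.2 x.2, mul_zero]
  rw [hu.mul_left_eq_zero, ZMod.intCast_zmod_eq_zero_iff_dvd] at hz
  have hpos : 0 < (m : ℤ).natAbs := Int.natAbs_pos.2 (nonZeroDivisors.coe_ne_zero m)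
  exact absurd (Nat.le_of_dvd hpos (Int.natCast_dvd.1 hz)) (not_le.2 hn)

theorem crit_of_complement {L : Type u} [Group L] [Finite L] {H : Subgroup L}
    (hH : Cfsg.IsFrobeniusComplement H) : Crit H := by
  classical
  obtain ⟨K, hKk, hKn, hc⟩ := exists_kernel hH
  haveI := hKn
  haveI := isNilpotent_kernel hH hKk
  have hK : K ≠ ⊥ := fun h => by
    subst h
    exact hH.2.1 (Subgroup.isComplement'_bot_left.1 hc)
  haveI : Nontrivial K := (Subgroup.nontrivial_iff_ne_bot K).2 hK
  haveI : Nontrivial (Subgroup.center K) :=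
    (Subgroup.nontrivial_iff_ne_bot _).2 (Group.IsNilpotent.center_ne_bot (G := K))
  obtain ⟨r, hr, hrd⟩ := Nat.exists_prime_and_dvd (Finite.one_lt_card (α := Subgroup.center K)).ne'
  haveI := Fact.mk hr
  obtain ⟨z, hz⟩ := exists_prime_orderOf_dvd_card' (G := Subgroup.center K) r hrd
  set Z : Subgroup L := (Subgroup.center K).map K.subtype with hZ
  let V : Subgroup L :=
    { carrier := {x | x ∈ Z ∧ x ^ r = 1}
      one_mem' := ⟨one_mem Z, one_pow r⟩
      mul_mem' := fun {a b} ha hb => ⟨mul_mem ha.1 hb.1, by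
        obtain ⟨a', ha', rfl⟩ := ha.1
        obtain ⟨b', hb', rfl⟩ := hb.1
        have : Commute (a' : L) b' := congrArg Subtype.val (Subgroup.mem_center_iff.1 hb' a')
        rw [show (K.subtype a') * K.subtype b' = (a' : L) * b' from rfl, this.mul_pow]
        exact (congrArg₂ (· * ·) ha.2 hb.2).trans (one_mul 1)⟩
      inv_mem' := fun {a} ha => ⟨inv_mem ha.1, by rw [inv_pow, ha.2, inv_one]⟩ }
  haveI hVc : IsMulCommutative V := ⟨⟨fun a b => by
    obtain ⟨a', ha', ea⟩ := a.2.1
    obtain ⟨b', hb', eb⟩ := b.2.1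
    apply Subtype.ext
    show (a : L) * b = b * a
    rw [← ea, ← eb]
    exact congrArg Subtype.val (Subgroup.mem_center_iff.1 hb' a')⟩⟩
  have hZn : Z.Normal := by rw [hZ]; infer_instance
  have hVn : V.Normal := ⟨fun x hx g => ⟨hZn.conj_mem x hx.1 g, by
    show (g * x * g⁻¹) ^ r = 1
    rw [conj_pow, hx.2, mul_one, mul_inv_cancel]⟩⟩
  have hVK : V ≤ K := fun x hx => (Subgroup.map_subtype_le _) hx.1
  haveI : Nontrivial V := by
    refine ⟨⟨⟨((z : K) : L), ⟨z, z.2, rfl⟩, ?_⟩, 1, fun h => ?_⟩⟩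
    · have := congrArg (fun x : Subgroup.center K => ((x : K) : L)) (pow_orderOf_eq_one z)
      simpa [hz] using this
    · have : z = 1 := Subtype.ext (Subtype.ext (congrArg (fun x : V => (x : L)) h))
      rw [this, orderOf_one] at hz
      exact hr.ne_one hz.symm
  have hfpf : ∀ h ∈ H, h ≠ 1 → K ⊓ centralizer {h} = ⊥ := (isFrobeniusComplement_iff_fpf hc hK hH.1).1 hH
  have hFpf : Cfsg.Lib.Frobenius.Fpf H V := fun h hh h1 =>
    eq_bot_iff.2 ((inf_le_inf_right _ hVK).trans (hfpf h hh h1).le)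
  have hcop := hFpf.coprime (le_normalizer_of_normal (H := V) (K := H))
  have hrV : r ∣ Nat.card V := by
    obtain ⟨x, hx⟩ := exists_ne (1 : V)
    have : orderOf x = r := orderOf_eq_prime (Subtype.ext x.2.2) hx
    exact this ▸ orderOf_dvd_natCard x
  have hrH : ¬ r ∣ Nat.card H := fun hd => hr.ne_one (Nat.eq_one_of_dvd_coprimes hcop hd hrV)
  letI : CommGroup V := { (inferInstance : Group V) with mul_comm := hVc.is_comm.comm }
  let ρ : H →* AddMonoid.End (Additive V) :=
    { toFun := fun h => AddMonoidHom.mk' (fun x : Additive V =>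
          Additive.ofMul (⟨(h : L) * x.toMul * (h : L)⁻¹, hVn.conj_mem _ x.toMul.2 _⟩ : V)) (fun x y => by
          apply Additive.toMul.injective
          apply Subtype.ext
          show (h : L) * ((x.toMul : L) * y.toMul) * (h : L)⁻¹ = (h * x.toMul * (h : L)⁻¹) * (h * y.toMul * (h : L)⁻¹)
          group)
      map_one' := by
        refine AddMonoidHom.ext fun x => ?_
        apply Additive.toMul.injective
        apply Subtype.ext
        show ((1 : H) : L) * (x.toMul : L) * ((1 : H) : L)⁻¹ = x.toMul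
        simp
      map_mul' := fun a b => by
        refine AddMonoidHom.ext fun x => ?_
        apply Additive.toMul.injective
        apply Subtype.ext
        show ((a * b : H) : L) * (x.toMul : L) * ((a * b : H) : L)⁻¹ = a * (b * x.toMul * (b : L)⁻¹) * (a : L)⁻¹
        simp [mul_assoc] }
  refine crit_of_modular hr fun n => exists_modular hrH
    (fun x : Additive V => by
      apply Additive.toMul.injective
      rw [toMul_nsmul, toMul_zero]
      exact Subtype.ext x.toMul.2.2) ρ (fun h h1 x hx => ?_) n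
  apply Additive.toMul.injective
  apply Subtype.ext
  have h2 : (h : L) * x.toMul * (h : L)⁻¹ = x.toMul := congrArg (fun y : Additive V => (y.toMul : L)) hx
  exact hFpf.eq_one h.2 (fun e => h1 (Subtype.ext e)) x.toMul.2 (mul_inv_eq_iff_eq_mul.1 h2)

theorem crit_iff {G : Type u} [Group G] [Finite G] [Nontrivial G] : Crit G ↔ Occurs G := by
  refine ⟨Crit.occurs, ?_⟩
  rintro ⟨L, i1, i2, H, hH, ⟨e⟩⟩
  exact (crit_of_complement hH).comap e.toMonoidHom e.injective

theorem occurs_prod_iff {A : Type u} [Group A] [Finite A] [Nontrivial A] {B : Type v} [Group B] [Finite B]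
    [Nontrivial B] : Occurs (A × B) ↔ Occurs A ∧ Occurs B ∧ (Nat.card A).Coprime (Nat.card B) := by
  simp only [← crit_iff]
  refine ⟨fun h => ⟨h.comap (MonoidHom.inl A B) (fun _ _ e => congrArg Prod.fst e),
    h.comap (MonoidHom.inr A B) (fun _ _ e => congrArg Prod.snd e), h.coprime⟩, fun h => h.1.prod h.2.2 h.2.1⟩

end Cfsg.Lib.Frobenius.ProductComplement
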