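/-
`SL(2,3)` acting without fixed points on a plane over the field of five elements.
-/
import Cfsg.Agent.Frobenius.DivisionRing

set_option linter.style.haveILetI false
set_option linter.unusedSectionVars false

namespace Cfsg.Lib.Frobenius.SLTwoThree

open Matrix

/-- the image table -/
def tbl : List ℕ :=
  [0, 0, 0, 0, 0, 0, 0, 0, 0, 0, 0, 0, 0, 0, 0, 105, 369, 431, 0, 0, 0, 45, 349, 411, 0, 0, 0, 0, 126, 0, 0, 183, 0, 0,
   471, 0, 0, 163, 0, 0, 0, 60, 557, 0, 0, 0, 491, 0, 537, 0, 0, 0, 0, 377, 0, 0, 504, 0, 0, 309, 0, 0, 597, 0, 0, 289,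
   0, 253, 0, 243, 0, 0, 0, 0, 617, 223, 0, 0, 0, 90, 0]

/-- the lifted matrix -/
def img (a b c d : ZMod 3) : ℕ := tbl.getD (27 * a.val + 9 * b.val + 3 * c.val + d.val) 0

/-- the action on the plane -/
def act (m : ℕ) (v : ZMod 5 × ZMod 5) : ZMod 5 × ZMod 5 :=
  (((m / 125 : ℕ) : ZMod 5) * v.1 + ((m / 25 % 5 : ℕ) : ZMod 5) * v.2,
    ((m / 5 % 5 : ℕ) : ZMod 5) * v.1 + ((m % 5 : ℕ) : ZMod 5) * v.2)

set_option maxRecDepth 100000 in
set_option maxHeartbeats 1000000 in
theorem img_mul : ∀ a b c d : ZMod 3, a * d - b * c = 1 → ∀ e f g h : ZMod 3, e * h - f * g = 1 →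
    act (img (a * e + b * g) (a * f + b * h) (c * e + d * g) (c * f + d * h)) (1, 0) =
        act (img a b c d) (act (img e f g h) (1, 0)) ∧
      act (img (a * e + b * g) (a * f + b * h) (c * e + d * g) (c * f + d * h)) (0, 1) =
        act (img a b c d) (act (img e f g h) (0, 1)) := by
  decide

set_option maxRecDepth 100000 in
set_option maxHeartbeats 1000000 in
theorem img_fpf : ∀ a b c d : ZMod 3, a * d - b * c = 1 → ¬ (a = 1 ∧ b = 0 ∧ c = 0 ∧ d = 1) →
    ∀ x y : ZMod 5, act (img a b c d) (x, y) = (x, y) → x = 0 ∧ y = 0 := by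
  decide

theorem act_add (m : ℕ) (v w : ZMod 5 × ZMod 5) : act m (v + w) = act m v + act m w := by
  simp only [act, Prod.mk_add_mk, Prod.fst_add, Prod.snd_add]
  ext <;> ring

theorem act_ext {m k : ℕ} {n : ℕ} (h1 : act m (1, 0) = act k (act n (1, 0))) (h2 : act m (0, 1) = act k (act n (0, 1)))
    (v : ZMod 5 × ZMod 5) : act m v = act k (act n v) := by
  obtain ⟨x, y⟩ := v
  simp only [act, mul_one, mul_zero, add_zero, zero_add, Prod.mk.injEq] at h1 h2 ⊢
  constructor
  · linear_combination x * h1.1 + y * h2.1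
  · linear_combination x * h1.2 + y * h2.2

theorem occurs : Cfsg.Lib.Frobenius.DivRing.Occurs (SpecialLinearGroup (Fin 2) (ZMod 3)) := by
  let ev : SpecialLinearGroup (Fin 2) (ZMod 3) → ℕ := fun M => img (M.1 0 0) (M.1 0 1) (M.1 1 0) (M.1 1 1)
  have hdet : ∀ M : SpecialLinearGroup (Fin 2) (ZMod 3), M.1 0 0 * M.1 1 1 - M.1 0 1 * M.1 1 0 = 1 := fun M => by
    rw [← Matrix.det_fin_two]; exact M.2
  let ρ : SpecialLinearGroup (Fin 2) (ZMod 3) →* AddMonoid.End (ZMod 5 × ZMod 5) :=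
    { toFun := fun M => AddMonoidHom.mk' (act (ev M)) (act_add _)
      map_one' := by
        apply AddMonoidHom.ext
        intro v
        show act (img 1 0 0 1) v = v
        obtain ⟨x, y⟩ := v
        revert x y
        decide
      map_mul' := fun M N => by
        apply AddMonoidHom.ext
        intro v
        show act (ev (M * N)) v = act (ev M) (act (ev N) v)
        have h := img_mul _ _ _ _ (hdet M) _ _ _ _ (hdet N)
        refine act_ext ?_ ?_ v
        · simpa [ev, SpecialLinearGroup.coe_mul, Matrix.mul_apply, Fin.sum_univ_two] using h.1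
        · simpa [ev, SpecialLinearGroup.coe_mul, Matrix.mul_apply, Fin.sum_univ_two] using h.2 }
  haveI : Nontrivial (SpecialLinearGroup (Fin 2) (ZMod 3)) :=
    ⟨⟨⟨!![1, 1; 0, 1], by simp [Matrix.det_fin_two]⟩, 1, fun h => by
      have := congrArg (fun M : SpecialLinearGroup (Fin 2) (ZMod 3) => M.1 0 1) h
      simp at this⟩⟩
  haveI : Nontrivial (ZMod 5) := ⟨⟨0, 1, by decide⟩⟩
  refine Cfsg.Lib.Frobenius.DivRing.occurs_of_fpf ρ fun M hM v hv => ?_
  obtain ⟨x, y⟩ := v
  obtain ⟨hx, hy⟩ := img_fpf _ _ _ _ (hdet M) (fun ⟨h1, h2, h3, h4⟩ => hM (by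
    ext i j
    fin_cases i <;> fin_cases j <;> simp [h1, h2, h3, h4])) x y hv
  rw [hx, hy]; rfl

end Cfsg.Lib.Frobenius.SLTwoThree
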