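/-
Cyclic and dicyclic groups inside division rings.
-/
import Cfsg.Agent.Frobenius.DivisionRing

set_option linter.style.haveILetI false
set_option linter.unusedSectionVars false

namespace Cfsg.Lib.Frobenius.DicyclicComplement

open Quaternion

noncomputable section

/-- The root of unity as a quaternion. -/
def z {m : ℕ} [NeZero m] (i : ZMod m) : ℍ[ℝ] :=
  ⟨((ZMod.toCircle i : Circle) : ℂ).re, ((ZMod.toCircle i : Circle) : ℂ).im, 0, 0⟩

@[simp] theorem z_re {m : ℕ} [NeZero m] (i : ZMod m) : (z i).re = ((ZMod.toCircle i : Circle) : ℂ).re := rfl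

@[simp] theorem z_imI {m : ℕ} [NeZero m] (i : ZMod m) : (z i).imI = ((ZMod.toCircle i : Circle) : ℂ).im := rfl

@[simp] theorem z_imJ {m : ℕ} [NeZero m] (i : ZMod m) : (z i).imJ = 0 := rfl

@[simp] theorem z_imK {m : ℕ} [NeZero m] (i : ZMod m) : (z i).imK = 0 := rfl

/-- The quaternion `j`. -/
def qj : ℍ[ℝ] := ⟨0, 0, 1, 0⟩

@[simp] theorem qj_re : qj.re = 0 := rfl

@[simp] theorem qj_imI : qj.imI = 0 := rfl

@[simp] theorem qj_imJ : qj.imJ = 1 := rfl

@[simp] theorem qj_imK : qj.imK = 0 := rfl

theorem z_add {m : ℕ} [NeZero m] (i k : ZMod m) : z (i + k) = z i * z k := by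
  ext <;> simp [AddChar.map_add_eq_mul]

theorem z_zero {m : ℕ} [NeZero m] : z (0 : ZMod m) = 1 := by
  ext <;> simp

theorem z_injective {m : ℕ} [NeZero m] : Function.Injective (z (m := m)) := by
  intro i k h
  apply ZMod.injective_toCircle
  apply Circle.ext
  apply Complex.ext
  · exact congrArg QuaternionAlgebra.re h
  · exact congrArg QuaternionAlgebra.imI h

theorem z_qj {m : ℕ} [NeZero m] (i : ZMod m) : z i * qj = qj * z (-i) := by
  ext <;> simp [AddChar.map_neg_eq_inv, Circle.coe_inv_eq_conj, Complex.inv_re, Complex.inv_im]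

theorem qj_sq {n : ℕ} [NeZero n] : qj * qj = z (n : ZMod (2 * n)) := by
  have h : ((ZMod.toCircle (n : ZMod (2 * n)) : Circle) : ℂ) = -1 := by
    have h2 : ((2 * n : ℕ) : ℂ) ≠ 0 := Nat.cast_ne_zero.2 (NeZero.ne _)
    rw [ZMod.toCircle_natCast]
    push_cast at h2 ⊢
    rw [show 2 * ↑Real.pi * Complex.I * (n : ℂ) / (2 * (n : ℂ)) = ↑Real.pi * Complex.I by
      field_simp; exact div_self (Nat.cast_ne_zero.2 (NeZero.ne n)), Complex.exp_pi_mul_I]
  ext <;> simp [h]

/-- The dicyclic group inside the quaternions. -/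
def emb (n : ℕ) [NeZero n] : QuaternionGroup n →* ℍ[ℝ] where
  toFun
    | .a i => z i
    | .xa i => qj * z i
  map_one' := z_zero
  map_mul' := by
    rintro (i | i) (k | k)
    · show z (i + k) = z i * z k
      exact z_add i k
    · show qj * z (k - i) = z i * (qj * z k)
      rw [← mul_assoc, z_qj, mul_assoc, ← z_add, sub_eq_neg_add]
    · show qj * z (i + k) = qj * z i * z k
      rw [z_add, mul_assoc]
    · show z ((n : ZMod (2 * n)) + k - i) = qj * z i * (qj * z k)
      calc z ((n : ZMod (2 * n)) + k - i) = z (n : ZMod (2 * n)) * (z (-i) * z k) := by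
            rw [← z_add, ← z_add]; congr 1; ring
        _ = qj * qj * (z (-i) * z k) := by rw [qj_sq (n := n)]
        _ = qj * (qj * z (-i)) * z k := by rw [mul_assoc, mul_assoc, mul_assoc]
        _ = qj * (z i * qj) * z k := by rw [← z_qj i]
        _ = _ := by rw [mul_assoc, mul_assoc, mul_assoc]

theorem emb_injective (n : ℕ) [NeZero n] : Function.Injective (emb n) := by
  have hj : ∀ i k : ZMod (2 * n), (z i : ℍ[ℝ]) ≠ qj * z k := by
    intro i k h
    have h1 := congrArg QuaternionAlgebra.re h
    have h2 := congrArg QuaternionAlgebra.imI h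
    simp at h1 h2
    have := Circle.normSq_coe (ZMod.toCircle i)
    rw [Complex.normSq_apply, h1, h2] at this
    simp at this
  rintro (i | i) (k | k) h
  · exact congrArg _ (z_injective h)
  · exact absurd h (hj i k)
  · exact absurd h.symm (hj k i)
  · refine congrArg _ (z_injective ?_)
    have hq : qj ≠ 0 := fun e => by
      have := congrArg QuaternionAlgebra.imJ e
      simp [qj] at this
    exact mul_left_cancel₀ hq h

theorem occurs_quaternion (n : ℕ) [NeZero n] : Cfsg.Lib.Frobenius.DivRing.Occurs (QuaternionGroup n) := by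
  let f : QuaternionGroup n →* (ℍ[ℝ])ˣ := (emb n).toHomUnits
  have hf : Function.Injective f := fun a b h => emb_injective n (congrArg Units.val h)
  let e := MonoidHom.ofInjective hf
  haveI : Finite f.range := Finite.of_surjective _ e.surjective
  refine (Cfsg.Lib.Frobenius.DivRing.occurs_of_divisionRing f.range fun h => ?_).congr e.symm
  have := Subgroup.card_eq_one.2 h
  rw [← Nat.card_congr e.toEquiv, Nat.card_eq_fintype_card, QuaternionGroup.card] at this
  omega

theorem occurs_cyclic (C : Type*) [Group C] [Finite C] [IsCyclic C] [Nontrivial C] :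
    Cfsg.Lib.Frobenius.DivRing.Occurs C := by
  haveI : NeZero (Nat.card C) := ⟨Nat.card_pos.ne'⟩
  have hc : Nat.card (rootsOfUnity (Nat.card C) ℂ) = Nat.card C := by
    haveI := Fintype.ofFinite (rootsOfUnity (Nat.card C) ℂ)
    rw [Complex.card_rootsOfUnity]
  haveI : IsCyclic (rootsOfUnity (Nat.card C) ℂ) := rootsOfUnity.isCyclic ℂ _
  refine (Cfsg.Lib.Frobenius.DivRing.occurs_of_divisionRing (rootsOfUnity (Nat.card C) ℂ) fun h => ?_).congr
    (mulEquivOfCyclicCardEq hc)
  have h1 := Subgroup.card_eq_one.2 h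
  rw [hc] at h1
  exact (Finite.one_lt_card (α := C)).ne' h1

end

end Cfsg.Lib.Frobenius.DicyclicComplement
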