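/-
A Frobenius complement with a quaternion subgroup has a kernel of odd square order, and every such order occurs.
-/
import Cfsg.Agent.Frobenius.DivisionRing
import Cfsg.Agent.Frobenius.Kernel
import Cfsg.Agent.Frobenius.FpfGroups
import Mathlib.FieldTheory.Finite.Basic

set_option linter.style.haveILetI false
set_option linter.unusedSectionVars false

universe u v

namespace Cfsg.Lib.Frobenius.QuaternionKernel

/-- an abelian group of odd order with anticommuting square roots of `-1` has square order -/
theorem isSquare_card (n : ℕ) : ∀ (V : Type u) [AddCommGroup V] [Finite V], Nat.card V = n → Odd n →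
    ∀ I J : V →+ V, (∀ x, I (I x) = -x) → (∀ x, J (J x) = -x) → (∀ x, I (J x) = -J (I x)) → IsSquare n := by
  induction n using Nat.strong_induction_on with
  | _ n ih =>
    intro V _ _ hn hodd I J hI hJ hIJ
    by_cases h1 : n = 1
    · exact h1 ▸ ⟨1, rfl⟩
    obtain ⟨r, hr, hrn⟩ := Nat.exists_prime_and_dvd h1
    haveI := Fact.mk hr
    let f : V →+ V := nsmulAddMonoidHom r
    have hf : ∀ x, f x = r • x := fun _ => rfl
    let A : AddSubgroup V := f.ker
    let B : AddSubgroup V := f.range
    have hA : ∀ x, x ∈ A ↔ r • x = 0 := fun x => Iff.rfl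
    have hcard : Nat.card A * Nat.card B = n := by
      rw [← hn, AddSubgroup.card_eq_card_quotient_mul_card_addSubgroup A,
        Nat.card_congr (QuotientAddGroup.quotientKerEquivRange f).toEquiv, mul_comm]
    have hA1 : 1 < Nat.card A := by
      obtain ⟨x, hx⟩ := exists_prime_addOrderOf_dvd_card' (G := V) r (hn ▸ hrn)
      haveI : Nontrivial A := ⟨⟨⟨x, by rw [hA, ← hx, addOrderOf_nsmul_eq_zero]⟩, 0, fun h => hr.ne_one (by
        rw [← hx, show x = 0 from congrArg Subtype.val h, addOrderOf_zero])⟩⟩
      exact Finite.one_lt_card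
    -- the image
    have hB : IsSquare (Nat.card B) := by
      have hlt : Nat.card B < n := by
        rw [← hcard]
        exact lt_mul_of_one_lt_left Nat.card_pos hA1
      have hres : ∀ (g : V →+ V) (x : V), x ∈ B → g x ∈ B := by
        rintro g _ ⟨y, rfl⟩
        exact ⟨g y, by rw [hf, hf, map_nsmul]⟩
      exact ih _ hlt B rfl (Odd.of_dvd_nat hodd ⟨Nat.card A, by rw [← hcard, mul_comm]⟩)
        ((I.comp B.subtype).codRestrict B fun x => hres I x x.2) ((J.comp B.subtype).codRestrict B fun x => hres J x x.2)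
        (fun x => Subtype.ext (hI x)) (fun x => Subtype.ext (hJ x)) (fun x => Subtype.ext (hIJ x))
    -- the elements of exponent `r`
    obtain ⟨a', b', hab⟩ := ZMod.sq_add_sq r (-1)
    obtain ⟨a, rfl⟩ := ZMod.natCast_zmod_surjective a'
    obtain ⟨b, rfl⟩ := ZMod.natCast_zmod_surjective b'
    obtain ⟨c, hc⟩ : r ∣ a ^ 2 + b ^ 2 + 1 := by
      rw [← ZMod.natCast_eq_zero_iff]
      push_cast
      rw [hab, neg_add_cancel]
    obtain ⟨t, ht⟩ := Odd.of_dvd_nat hodd hrn
    let U : V →+ V := a • I + b • J
    let W : V →+ V := I.comp J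
    have hW : ∀ x, W (W x) = -x := fun x => by
      show I (J (I (J x))) = -x
      rw [show J (I (J x)) = -I (J (J x)) by rw [hIJ (J x), neg_neg], map_neg, hI, hJ, neg_neg]
    have hU : ∀ x, U x = a • I x + b • J x := fun x => rfl
    have hUU : ∀ x, r • x = 0 → U (U x) = x := by
      intro x hx
      have h0 : (a ^ 2 + b ^ 2 + 1) • x = 0 := by rw [hc, mul_comm, mul_smul, hx, smul_zero]
      have e : U (U x) = -((a ^ 2 + b ^ 2) • x) := by
        simp only [hU, map_add, map_nsmul, smul_add, hI, hJ, hIJ, smul_neg, ← mul_smul, add_smul, pow_two,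
          mul_comm b a]
        abel
      rw [e]
      rw [add_smul, one_smul] at h0
      exact neg_eq_of_add_eq_zero_right h0
    have hUW : ∀ x, U (W x) = -W (U x) := by
      intro x
      show U (I (J x)) = -I (J (U x))
      have e1 : J (I (J x)) = I x := by
        rw [show J (I (J x)) = -I (J (J x)) by rw [hIJ (J x), neg_neg], hJ, map_neg, neg_neg]
      have e2 : I (J (I x)) = J x := by rw [hIJ (I x), hI, map_neg, neg_neg]
      simp only [hU, map_add, map_nsmul, hI, e1, e2, hJ, map_neg, smul_neg]
      abel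
    let P : AddSubgroup V := A ⊓ (U - AddMonoidHom.id V).ker
    have hP : ∀ x, x ∈ P ↔ r • x = 0 ∧ U x = x := fun x => by
      rw [AddSubgroup.mem_inf, hA, AddMonoidHom.mem_ker, AddMonoidHom.sub_apply, sub_eq_zero]
      rfl
    have h2 : ∀ x : V, r • x = 0 → x + x = 0 → x = 0 := by
      intro x hx hxx
      have : (2 * t + 1) • x = 0 := by rw [← ht, hx]
      rwa [add_smul, one_smul, mul_comm, mul_smul, two_nsmul, hxx, smul_zero, zero_add] at this
    have hhalf : ∀ x : V, r • x = 0 → (t + 1) • x + (t + 1) • x = x := by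
      intro x hx
      rw [← add_smul, show t + 1 + (t + 1) = r + 1 by omega, add_smul, hx, zero_add, one_smul]
    have hrW : ∀ x : V, r • x = 0 → r • W x = 0 := fun x hx => by rw [← map_nsmul, hx, map_zero]
    have hrU : ∀ x : V, r • x = 0 → r • U x = 0 := fun x hx => by rw [← map_nsmul, hx, map_zero]
    let F : P × P → A := fun q => ⟨(q.1 : V) + W q.2, by
      rw [hA, smul_add, ((hP _).1 q.1.2).1, hrW _ ((hP _).1 q.2.2).1, add_zero]⟩
    have hF : Function.Bijective F := by
      constructor
      · intro q q' h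
        have e : (q.1 : V) + W q.2 = q'.1 + W q'.2 := congrArg Subtype.val h
        set d := (q.1 : V) - q'.1 with hd
        set d' := (q.2 : V) - q'.2 with hd'
        obtain ⟨hd1, hd2⟩ := (hP d).1 (P.sub_mem q.1.2 q'.1.2)
        obtain ⟨hd1', hd2'⟩ := (hP d').1 (P.sub_mem q.2.2 q'.2.2)
        have e0 : d + W d' = 0 := by
          rw [hd, hd', map_sub, sub_add_sub_comm, e, sub_self]
        have e1 : d - W d' = 0 := by
          have := congrArg U e0
          rwa [map_add, map_zero, hd2, hUW, hd2', ← sub_eq_add_neg] at this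
        have ed : d = 0 := h2 d hd1 (by
          calc d + d = (d + W d') + (d - W d') := by abel
            _ = 0 := by rw [e0, e1, add_zero])
        have ed' : d' = 0 := by
          rw [ed, zero_add] at e0
          have := hW d'
          rwa [e0, map_zero, eq_comm, neg_eq_zero] at this
        exact Prod.ext (Subtype.ext (sub_eq_zero.1 ed)) (Subtype.ext (sub_eq_zero.1 ed'))
      · rintro ⟨z, hz⟩
        rw [hA] at hz
        have hp1 : r • (z + U z) = 0 := by rw [smul_add, hz, hrU z hz, add_zero]
        have hp2 : r • (z - U z) = 0 := by rw [smul_sub, hz, hrU z hz, sub_zero]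
        have hx : (t + 1) • (z + U z) ∈ P := P.nsmul_mem ((hP _).2 ⟨hp1, by rw [map_add, hUU z hz, add_comm]⟩) _
        have hy : (t + 1) • -W (z - U z) ∈ P := P.nsmul_mem ((hP _).2 ⟨by
            rw [smul_neg, hrW _ hp2, neg_zero], by
            rw [map_neg, hUW, map_sub U, hUU z hz, ← map_neg, ← map_neg, neg_neg, ← map_neg W, neg_sub]⟩) _
        refine ⟨(⟨_, hx⟩, ⟨_, hy⟩), Subtype.ext ?_⟩
        show (t + 1) • (z + U z) + W ((t + 1) • -W (z - U z)) = z
        rw [map_nsmul, map_neg, hW, neg_neg, ← smul_add, show z + U z + (z - U z) = z + z by abel, smul_add,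
          hhalf z hz]
    have hA2 : IsSquare (Nat.card A) := ⟨Nat.card P, by rw [← Nat.card_prod, Nat.card_eq_of_bijective F hF]⟩
    exact hcard ▸ hA2.mul hB

open Subgroup

theorem odd_square_kernel {L : Type u} [Group L] [Finite L] {H : Subgroup L} (hF : Cfsg.IsFrobeniusComplement H)
    {i j : L} (hi : i ∈ H) (hj : j ∈ H) (hij : j * i * j⁻¹ = i⁻¹) (hjj : j * j = i * i) (hz1 : i * i ≠ 1)
    (hz2 : i * i * (i * i) = 1) :
    Odd (Nat.card (Cfsg.frobeniusKernel H)) ∧ IsSquare (Nat.card (Cfsg.frobeniusKernel H)) := by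
  obtain ⟨K, hKk, hKn, hc⟩ := exists_kernel hF
  haveI := hKn
  set z := i * i with hzdef
  have hz : z ∈ H := mul_mem hi hi
  have hzH : z ∈ Cfsg.Lib.Coprime.conjMap 1 H := by rwa [Cfsg.Lib.Coprime.conjMap_one]
  obtain ⟨hinv, -, -⟩ := involution_inverts hF hzH hz1 hz2
  have hinv' : ∀ x : K, z * x * z⁻¹ = (x : L)⁻¹ := fun x => hinv _ (hKk ▸ x.2)
  have hcardeq : Nat.card (Cfsg.frobeniusKernel H) = Nat.card K := by rw [← hKk]; rfl
  rw [hcardeq]
  have hodd : Odd (Nat.card K) := by
    rw [← Nat.not_even_iff_odd, even_iff_two_dvd]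
    intro h2
    haveI := Fact.mk Nat.prime_two
    obtain ⟨k, hk⟩ := exists_prime_orderOf_dvd_card' (G := K) 2 h2
    have hkk : (k : L)⁻¹ = k := inv_eq_of_mul_eq_one_right (by
      have := congrArg Subtype.val (pow_orderOf_eq_one k)
      rwa [hk, pow_two] at this)
    have hkH : (k : L) ∈ H := mem_of_commute hF hz hz1 (by
      have := hinv' k
      rw [hkk] at this
      exact (mul_inv_eq_iff_eq_mul.1 this).symm)
    have : (k : L) = 1 := disjoint_iff_inf_le.1 hc.disjoint ⟨k.2, hkH⟩
    rw [show k = 1 from Subtype.ext this, orderOf_one] at hk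
    omega
  refine ⟨hodd, ?_⟩
  have hcomm : ∀ x y : K, x * y = y * x := by
    intro x y
    apply Subtype.ext
    have h1 := hinv' (x * y)
    push_cast at h1
    rw [show z * ((x : L) * y) * z⁻¹ = (z * x * z⁻¹) * (z * y * z⁻¹) by group, hinv' x, hinv' y, ← mul_inv_rev,
      inv_inj] at h1
    exact h1.symm
  letI : CommGroup K := { (inferInstance : Group K) with mul_comm := hcomm }
  let act : L → Additive K →+ Additive K := fun g =>
    AddMonoidHom.mk' (fun x : Additive K => Additive.ofMul (⟨g * x.toMul * g⁻¹, hKn.conj_mem _ x.toMul.2 _⟩ : K))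
      (fun x y => by
        apply Additive.toMul.injective
        apply Subtype.ext
        show g * ((x.toMul : L) * y.toMul) * g⁻¹ = (g * x.toMul * g⁻¹) * (g * y.toMul * g⁻¹)
        group)
  have hact : ∀ (g : L) (x : Additive K), (((act g x).toMul : K) : L) = g * (x.toMul : L) * g⁻¹ := fun _ _ => rfl
  have hzact : ∀ (g h : L), g * h = z → ∀ x, act g (act h x) = -x := by
    intro g h e x
    apply Additive.toMul.injective
    apply Subtype.ext
    rw [hact, hact, toMul_neg]
    rw [show g * (h * (x.toMul : L) * h⁻¹) * g⁻¹ = (g * h) * x.toMul * (g * h)⁻¹ by group, e]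
    exact hinv' x.toMul
  refine isSquare_card _ (Additive K) rfl hodd (act i) (act j) (hzact i i rfl) (hzact j j hjj) fun x => ?_
  have e : i * j = z * (j * i) := by
    have h4 : z⁻¹ = z := inv_eq_of_mul_eq_one_right hz2
    have hjz : z * j = j * z := by rw [← hjj, mul_assoc]
    rw [← mul_assoc, hjz, mul_assoc, hzdef]
    have : j * i = i⁻¹ * j := mul_inv_eq_iff_eq_mul.1 hij
    calc i * j = z * (i⁻¹ * j) := by rw [hzdef]; group
      _ = z * j * i := by rw [← this, ← mul_assoc]
      _ = j * (z * i) := by rw [hjz, mul_assoc]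
      _ = _ := by rw [hzdef, mul_assoc]
  apply Additive.toMul.injective
  apply Subtype.ext
  rw [hact, hact, toMul_neg]
  show _ = (((act j (act i x)).toMul : K) : L)⁻¹
  rw [← hinv' (act j (act i x)).toMul, hact, hact,
    show i * (j * (x.toMul : L) * j⁻¹) * i⁻¹ = i * j * x.toMul * (i * j)⁻¹ by group, e]
  group

theorem odd_square_of_sylow {L : Type u} [Group L] [Finite L] {H : Subgroup L} (hF : Cfsg.IsFrobeniusComplement H)
    {p : ℕ} [hp : Fact p.Prime] (P : Sylow p H) (hP : ¬ IsCyclic P) :
    Odd (Nat.card (Cfsg.frobeniusKernel H)) ∧ IsSquare (Nat.card (Cfsg.frobeniusKernel H)) := by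
  obtain ⟨K, hKk, hKn, hc⟩ := exists_kernel hF
  haveI := hKn
  have hK : K ≠ ⊥ := fun h => by
    subst h
    exact hF.2.1 (Subgroup.isComplement'_bot_left.1 hc)
  have hfpf : ∀ h ∈ H, h ≠ 1 → K ⊓ centralizer {h} = ⊥ := (isFrobeniusComplement_iff_fpf hc hK hF.1).1 hF
  set A := (P : Subgroup H).map H.subtype with hA
  have hAH : A ≤ H := map_subtype_le _
  have hfA : Cfsg.Lib.Frobenius.Fpf A K := fun a ha => hfpf a (hAH ha)
  let e : (P : Subgroup H) ≃* A := (P : Subgroup H).equivMapOfInjective _ H.subtype_injective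
  have hAp : IsPGroup p A := P.2.of_equiv e
  rcases hfA.isCyclic_or_quaternion (le_normalizer_of_normal (H := K) (K := A)) hK hAp with hcy | ⟨-, n, ⟨f⟩⟩
  · exact absurd (isCyclic_of_surjective e.symm.toMonoidHom e.symm.surjective) hP
  · have hn : n ≠ 0 := by
      rintro rfl
      refine hP ?_
      haveI : IsCyclic (QuaternionGroup (2 ^ 0)) := (QuaternionGroup.quaternionGroup_one_isCyclic)
      exact isCyclic_of_surjective (f.trans (MulEquiv.refl _) |>.symm.trans e.symm).toMonoidHom
        (f.trans (MulEquiv.refl _) |>.symm.trans e.symm).surjective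
    obtain ⟨k, rfl⟩ := Nat.exists_eq_succ_of_ne_zero hn
    set m := 2 ^ (k + 1) with hm
    haveI : NeZero m := ⟨by positivity⟩
    let g : QuaternionGroup m →* L := A.subtype.comp f.symm.toMonoidHom
    have hg : Function.Injective g := Subtype.val_injective.comp f.symm.injective
    have hgH : ∀ x, g x ∈ H := fun x => hAH (f.symm x).2
    set w : QuaternionGroup m := QuaternionGroup.a ((2 ^ k : ℕ) : ZMod (2 * m)) with hw
    have hww : w * w = QuaternionGroup.a (m : ZMod (2 * m)) := by
      rw [hw, QuaternionGroup.a_mul_a, ← Nat.cast_add, hm, pow_succ, mul_two]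
    have hmne : (QuaternionGroup.a (m : ZMod (2 * m)) : QuaternionGroup m) ≠ 1 := by
      rw [QuaternionGroup.one_def]
      intro h
      simp only [QuaternionGroup.a.injEq, ZMod.natCast_eq_zero_iff] at h
      have := Nat.le_of_dvd (NeZero.pos m) h
      have := NeZero.pos m
      omega
    refine odd_square_kernel hF (hgH w) (hgH (QuaternionGroup.xa 0)) ?_ ?_ ?_ ?_
    · rw [← map_inv, ← map_mul, ← map_mul, ← map_inv]
      congr 1
      rw [mul_inv_eq_iff_eq_mul, eq_inv_mul_iff_mul_eq, hw]
      simp
    · rw [← map_mul, ← map_mul]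
      congr 1
      rw [hww]
      simp
    · rw [← map_mul, hww]
      exact fun h => hmne (hg (h.trans (map_one g).symm))
    · rw [← map_mul, ← map_mul, hww, ← map_one g]
      congr 1
      rw [QuaternionGroup.a_mul_a, QuaternionGroup.one_def, ← two_mul,
        show (2 : ZMod (2 * m)) * m = ((2 * m : ℕ) : ZMod (2 * m)) by push_cast; ring, ZMod.natCast_self]

/-- the data realising a kernel of order `m` -/
def Data (m : ℕ) : Prop :=
  ∃ (V : Type) (_ : AddCommGroup V) (_ : Finite V), Nat.card V = m ∧ ∃ I J : V →+ V,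
    (∀ x, I (I x) = -x) ∧ (∀ x, J (J x) = -x) ∧ ∀ x, I (J x) = -J (I x)

theorem data_mul {m n : ℕ} (h : Data m) (h' : Data n) : Data (m * n) := by
  obtain ⟨V, i1, i2, rfl, I, J, a1, a2, a3⟩ := h
  obtain ⟨W, j1, j2, rfl, I', J', b1, b2, b3⟩ := h'
  exact ⟨V × W, inferInstance, inferInstance, Nat.card_prod V W, I.prodMap I', J.prodMap J',
    fun x => Prod.ext (a1 x.1) (b1 x.2), fun x => Prod.ext (a2 x.1) (b2 x.2), fun x => Prod.ext (a3 x.1) (b3 x.2)⟩

theorem data_sq : ∀ k : ℕ, Odd k → Data (k * k) := by
  intro k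
  induction k using induction_on_primes with
  | zero => intro h; exact absurd h (by decide)
  | one => exact fun _ => ⟨PUnit, inferInstance, inferInstance, Nat.card_unique, 0, 0, fun _ => rfl, fun _ => rfl, fun _ => rfl⟩
  | prime_mul r a hr ih =>
    intro h
    rw [Nat.odd_mul] at h
    rw [mul_mul_mul_comm]
    refine data_mul ?_ (ih h.2)
    haveI := Fact.mk hr
    obtain ⟨s, t, hst⟩ := ZMod.sq_add_sq r (-1)
    refine ⟨ZMod r × ZMod r, inferInstance, inferInstance, by rw [Nat.card_prod, Nat.card_zmod],
      AddMonoidHom.mk' (fun x => (-x.2, x.1)) ?_,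
      AddMonoidHom.mk' (fun x => (s * x.1 + t * x.2, t * x.1 - s * x.2)) ?_, ?_, ?_, ?_⟩
    · intro x y; ext <;> simp <;> ring
    · intro x y; ext <;> simp <;> ring
    · intro x; ext <;> simp
    · intro x
      ext
      · simp only [AddMonoidHom.mk'_apply, Prod.fst_neg]
        linear_combination x.1 * hst
      · simp only [AddMonoidHom.mk'_apply, Prod.snd_neg]
        linear_combination x.2 * hst
    · intro x; ext <;> simp <;> ring

theorem exists_frobenius {m : ℕ} (hm : 1 < m) (hodd : Odd m) (hsq : IsSquare m) :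
    ∃ (L : Type) (_ : Group L) (_ : Finite L) (H : Subgroup L), Cfsg.IsFrobeniusComplement H ∧
        Nonempty (H ≃* QuaternionGroup 2) ∧ Nat.card (Cfsg.frobeniusKernel H) = m := by
  obtain ⟨k, rfl⟩ := hsq
  obtain ⟨V, i1, i2, hcard, I, J, hI, hJ, hIJ⟩ := data_sq k (Nat.odd_mul.1 hodd).1
  haveI : Nontrivial V := Finite.one_lt_card_iff_nontrivial.1 (hcard ▸ hm)
  let I' : AddMonoid.End V := I
  let J' : AddMonoid.End V := J
  have h22 : I' * I' = -1 := AddMonoidHom.ext hI
  have hJ2 : J' * J' = I' * I' := AddMonoidHom.ext fun x => (hJ x).trans (hI x).symm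
  have hIJ' : I' * J' = -(J' * I') := AddMonoidHom.ext hIJ
  have h4 : I' ^ 4 = 1 := by rw [show 4 = 2 + 2 from rfl, pow_add, pow_two, h22, neg_mul_neg, one_mul]
  let e : ZMod 4 → AddMonoid.End V := fun i => I' ^ i.val
  have hadd : ∀ i j : ZMod 4, e (i + j) = e i * e j := fun i j => by
    show I' ^ _ = _
    rw [ZMod.val_add, ← pow_add, ← pow_eq_pow_mod _ h4]
  have he0 : e 0 = 1 := pow_zero I'
  have he1 : e 1 = I' := pow_one I'
  have he2 : e 2 = J' * J' := by rw [hJ2]; exact pow_two I'
  have he3 : e (-1) = -I' := by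
    show I' ^ 3 = _
    rw [pow_succ, pow_two, h22, neg_one_mul]
  have hcj : ∀ i : ZMod 4, e i * J' = J' * e (-i) := by
    intro i
    obtain ⟨n, rfl⟩ := ZMod.natCast_zmod_surjective i
    induction n with
    | zero => rw [Nat.cast_zero, neg_zero, he0, one_mul, mul_one]
    | succ n ih =>
      rw [Nat.cast_succ, hadd, he1, mul_assoc, hIJ', neg_add, hadd, he3, mul_neg, ← mul_assoc, ih, mul_assoc, mul_neg]
      simp [mul_assoc]
  let ρ : QuaternionGroup 2 →* AddMonoid.End V :=
    { toFun := fun g => match g with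
        | .a i => e i
        | .xa i => J' * e i
      map_one' := he0
      map_mul' := fun g h => by
        cases g <;> rename_i i <;> cases h <;> rename_i j
        · rw [QuaternionGroup.a_mul_a]; exact hadd i j
        · rw [QuaternionGroup.a_mul_xa]
          show J' * e (j - i) = e i * (J' * e j)
          rw [← mul_assoc, hcj, mul_assoc, ← hadd, neg_add_eq_sub]
        · rw [QuaternionGroup.xa_mul_a]
          show J' * e (i + j) = J' * e i * e j
          rw [mul_assoc, hadd]
        · rw [QuaternionGroup.xa_mul_xa]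
          show e ((2 : ℕ) + j - i : ZMod 4) = J' * e i * (J' * e j)
          rw [mul_assoc, ← mul_assoc (e i), hcj, ← mul_assoc, ← mul_assoc, ← he2, ← hadd, ← hadd]
          congr 1
          push_cast
          ring }
  let φ : QuaternionGroup 2 →* MulAut (Multiplicative V) :=
    MonoidHom.toHomUnits (G := QuaternionGroup 2) ρ |> fun ψ =>
      { toFun := fun g =>
          { toFun := fun x => Multiplicative.ofAdd (ρ g x.toAdd)
            invFun := fun x => Multiplicative.ofAdd (ρ g⁻¹ x.toAdd)
            left_inv := fun x => by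
              show Multiplicative.ofAdd (ρ g⁻¹ (ρ g x.toAdd)) = x
              rw [← Function.comp_apply (f := ρ g⁻¹), ← AddMonoid.End.coe_mul, ← map_mul, inv_mul_cancel, map_one]
              rfl
            right_inv := fun x => by
              show Multiplicative.ofAdd (ρ g (ρ g⁻¹ x.toAdd)) = x
              rw [← Function.comp_apply (f := ρ g), ← AddMonoid.End.coe_mul, ← map_mul, mul_inv_cancel, map_one]
              rfl
            map_mul' := fun x y => by
              show Multiplicative.ofAdd (ρ g (x.toAdd + y.toAdd)) = _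
              rw [map_add]; rfl }
        map_one' := by
          ext x
          show Multiplicative.ofAdd (ρ 1 x.toAdd) = x
          rw [map_one]; rfl
        map_mul' := fun a b => by
          ext x
          show Multiplicative.ofAdd (ρ (a * b) x.toAdd) = Multiplicative.ofAdd (ρ a (ρ b x.toAdd))
          rw [map_mul]; rfl }
  let X := SemidirectProduct (Multiplicative V) (QuaternionGroup 2) φ
  haveI : Finite X := Finite.of_equiv (Multiplicative V × QuaternionGroup 2) SemidirectProduct.equivProd.symm
  let N := (SemidirectProduct.inl : Multiplicative V →* X).range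
  let H := (SemidirectProduct.inr : QuaternionGroup 2 →* X).range
  haveI : N.Normal := by
    show (SemidirectProduct.inl : Multiplicative V →* X).range.Normal
    rw [SemidirectProduct.range_inl_eq_ker_rightHom]; infer_instance
  have hc : N.IsComplement' H := by
    refine Subgroup.isComplement'_of_disjoint_and_mul_eq_univ ?_ ?_
    · rw [disjoint_iff, eq_bot_iff_forall]
      intro x hx
      obtain ⟨⟨a, rfl⟩, b, hb⟩ := Subgroup.mem_inf.1 hx
      have := congrArg SemidirectProduct.left hb
      simp only [SemidirectProduct.left_inl, SemidirectProduct.left_inr] at this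
      rw [← this, map_one]
    · rw [Set.eq_univ_iff_forall]
      intro x
      exact ⟨_, ⟨x.left, rfl⟩, _, ⟨x.right, rfl⟩, SemidirectProduct.inl_left_mul_inr_right x⟩
  have hNcard : Nat.card N = k * k := by
    rw [← Nat.card_congr (MonoidHom.ofInjective (SemidirectProduct.inl_injective (φ := φ))).toEquiv, ← hcard]
    exact Nat.card_congr Multiplicative.toAdd
  have hNne : N ≠ ⊥ := fun h => by rw [h, Subgroup.card_bot] at hNcard; omega
  have hHne : H ≠ ⊥ := fun h => by
    have := (eq_bot_iff_forall _).1 h _ ⟨QuaternionGroup.xa 0, rfl⟩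
    exact absurd (SemidirectProduct.inr_injective (this.trans (map_one _).symm)) (by decide)
  have hF : Cfsg.IsFrobeniusComplement H := by
    refine (Cfsg.Lib.Frobenius.isFrobeniusComplement_iff_fpf hc hNne hHne).2 ?_
    rintro _ ⟨g, rfl⟩ hg
    rw [eq_bot_iff_forall]
    intro z hz
    obtain ⟨⟨a, rfl⟩, hza⟩ := Subgroup.mem_inf.1 hz
    have h1 := congrArg SemidirectProduct.left (mem_centralizer_singleton_iff.1 hza)
    simp at h1
    have h2 : ρ g a.toAdd = a.toAdd := congrArg Multiplicative.toAdd h1.symm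
    have hg1 : g ≠ 1 := fun h => hg (by rw [h, map_one])
    have hfix : ρ (QuaternionGroup.a 2) a.toAdd = a.toAdd := by
      have key : ∀ x : QuaternionGroup 2, x = 1 ∨ x = QuaternionGroup.a 2 ∨ x * x = QuaternionGroup.a 2 := by decide
      rcases key g with h | h | h
      · exact absurd h hg1
      · rwa [← h]
      · rw [← h, map_mul, AddMonoid.End.coe_mul, Function.comp_apply, h2, h2]
    have hneg : -a.toAdd = a.toAdd := by
      have : ρ (QuaternionGroup.a 2) a.toAdd = -a.toAdd := by
        show (I' ^ 2) a.toAdd = _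
        rw [pow_two]
        exact hI _
      rw [← this, hfix]
    have ha0 : a.toAdd = 0 := by
      refine AddMonoid.addOrderOf_eq_one_iff.1 (Nat.eq_one_of_dvd_coprimes (a := 2) (b := Nat.card V) ?_ ?_
        (addOrderOf_dvd_natCard _))
      · exact Nat.prime_two.coprime_iff_not_dvd.2 fun h => Nat.not_even_iff_odd.2 (hcard ▸ hodd) (even_iff_two_dvd.2 h)
      · refine addOrderOf_dvd_of_nsmul_eq_zero ?_
        rw [two_nsmul]
        nth_rewrite 1 [← hneg]
        exact neg_add_cancel _
    rw [show a = 1 from Multiplicative.toAdd.injective ha0, map_one]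
  obtain ⟨n, ⟨e₀⟩⟩ := Finite.exists_equiv_fin X
  let e₁ : X ≃ {i : Fin n // True} := e₀.trans (Equiv.subtypeUnivEquiv fun _ => trivial).symm
  letI : Group {i : Fin n // True} := e₁.symm.group
  let e' : X ≃* {i : Fin n // True} := e₁.symm.mulEquiv.symm
  refine ⟨{i : Fin n // True}, inferInstance, inferInstance, H.map e'.toMonoidHom,
    Cfsg.Lib.Frobenius.DivRing.isFrobeniusComplement_map e' hF, ⟨?_⟩, ?_⟩
  · exact ((MonoidHom.ofInjective (f := (SemidirectProduct.inr : QuaternionGroup 2 →* X))
      SemidirectProduct.inr_injective).trans (H.equivMapOfInjective e'.toMonoidHom e'.injective)).symm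
  · rw [card_kernel (Cfsg.Lib.Frobenius.DivRing.isFrobeniusComplement_map e' hF),
      Subgroup.index_map_of_bijective (f := e'.toMonoidHom) e'.bijective, hc.index_eq_card, hNcard]

end Cfsg.Lib.Frobenius.QuaternionKernel
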