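import Cfsg.Agent.SolvStruct.Zassenhaus.Rep
import Cfsg.Agent.SolvStruct.Zassenhaus.Six

/-! Metacyclic presentation of a fixed-point-free group all of whose Sylow subgroups are cyclic. -/

set_option autoImplicit false

namespace Cfsg.Lib.ZPres

open Cfsg.Lib.SolvStruct.Zassenhaus

universe u v

variable {G : Type u} [Group G]

theorem conj_pow_eq {x y : G} {s : ℕ} (h : y⁻¹ * x * y = x ^ s) (k : ℕ) :
    (y ^ k)⁻¹ * x * y ^ k = x ^ s ^ k := by
  induction k with
  | zero => simp
  | succ k ih =>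
    rw [pow_succ y, mul_inv_rev, show y⁻¹ * (y ^ k)⁻¹ * x * (y ^ k * y) = y⁻¹ * ((y ^ k)⁻¹ * x * y ^ k) * y
      by group, ih, ← inv_inv y, inv_inv y⁻¹, ← conj_pow, inv_inv, h, ← pow_mul, ← pow_succ']

/-- Subgroups of order a product of two primes are cyclic. -/
theorem commute_of_prime_orders [Finite G] {R : Type v} [Ring R] [Algebra ℚ R] [Nontrivial R] {φ : G →* R}
    (hφ : IsFpf φ) {x y : G} {p q s : ℕ} (hp : p.Prime) (hq : q.Prime) (hpq : p ≠ q)
    (hx : orderOf x = q) (hy : orderOf y = p) (h : y⁻¹ * x * y = x ^ s) : Commute x y := by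
  haveI := Fact.mk hq
  by_contra hne
  have hs : (s : ZMod q) ≠ 1 := fun e => by
    refine hne ?_
    have h1 : x ^ s = x ^ 1 := by
      rw [pow_eq_pow_iff_modEq, hx]
      exact (ZMod.natCast_eq_natCast_iff _ _ _).1 (by rw [e, Nat.cast_one])
    rw [h1, pow_one, mul_assoc, inv_mul_eq_iff_eq_mul] at h
    exact h
  have hsp : (s : ZMod q) ^ p = 1 := by
    have h1 := conj_pow_eq h p
    rw [← hy, pow_orderOf_eq_one, inv_one, one_mul, mul_one, hy] at h1
    have h2 : x ^ 1 = x ^ s ^ p := by rw [pow_one]; exact h1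
    rw [pow_eq_pow_iff_modEq, hx] at h2
    exact_mod_cast ((ZMod.natCast_eq_natCast_iff _ _ _).2 h2).symm
  let c : ℕ → ℕ := fun i => ∑ l ∈ Finset.range i, s ^ l
  have hc : ∀ i, (c i : ZMod q) * ((s : ZMod q) - 1) = (s : ZMod q) ^ i - 1 := fun i => by
    simp only [c, Nat.cast_sum, Nat.cast_pow]
    exact geom_sum_mul _ i
  have hpush : ∀ k, x ^ k * y = y * x ^ (k * s) := fun k => by
    rw [mul_comm k, pow_mul, ← h]
    conv_rhs => rw [← inv_inv y, inv_inv y⁻¹, conj_pow]
    group
  have hpow : ∀ j i, (y * x ^ j) ^ i = y ^ i * x ^ (j * c i) := fun j i => by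
    induction i with
    | zero => simp [c]
    | succ i ih =>
      rw [pow_succ, ih, pow_succ y, mul_assoc, ← mul_assoc (x ^ (j * c i)), hpush, mul_assoc y,
        ← pow_add, ← mul_assoc]
      congr 2
      simp only [c, geom_sum_succ]
      ring
  have hone : ∀ j, ∑ i ∈ Finset.range p, φ (y * x ^ j) ^ i = 0 := fun j => by
    refine hφ.geom (fun e => ?_) ?_
    · have h1 : y = (x ^ j)⁻¹ := eq_inv_of_mul_eq_one_left e
      have h2 : p ∣ q := by
        rw [← hy, ← hx, h1, orderOf_inv]
        exact orderOf_pow_dvd j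
      exact hpq ((Nat.prime_dvd_prime_iff_eq hp hq).1 h2)
    · rw [hpow, ← hy, pow_orderOf_eq_one, one_mul, hy, ← orderOf_dvd_iff_pow_eq_one, hx]
      refine Dvd.dvd.mul_left ((ZMod.natCast_eq_zero_iff _ _).1 ?_ |> id) j
      have := hc p
      rw [hsp, sub_self] at this
      exact (mul_eq_zero.1 this).resolve_right (sub_ne_zero.2 hs)
  have hsum : ∑ i ∈ Finset.range p, φ y ^ i * ∑ j ∈ Finset.range q, φ (x ^ c i) ^ j = 0 := by
    simp only [Finset.mul_sum, ← map_pow, ← map_mul, ← pow_mul]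
    rw [Finset.sum_comm]
    refine Finset.sum_eq_zero fun j _ => ?_
    rw [← hone j]
    exact Finset.sum_congr rfl fun i _ => by rw [← map_pow, hpow, mul_comm (c i)]
  rw [Finset.sum_eq_single 0] at hsum
  · simp only [c, Finset.range_zero, Finset.sum_empty, pow_zero, map_one, one_mul, one_pow,
      Finset.sum_const, Finset.card_range, nsmul_eq_mul, mul_one] at hsum
    rw [← map_natCast (algebraMap ℚ R), map_eq_zero_iff _ (algebraMap ℚ R).injective] at hsum
    exact hq.ne_zero (by exact_mod_cast hsum)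
  · intro i hi hi0
    rw [hφ.geom (n := q) ?_ ?_, mul_zero]
    · intro e
      rw [← orderOf_dvd_iff_pow_eq_one, hx, ← ZMod.natCast_eq_zero_iff] at e
      have h2 := hc i
      rw [e, zero_mul, eq_comm, sub_eq_zero] at h2
      haveI := Fact.mk hp
      have h3 : orderOf (s : ZMod q) = p := orderOf_eq_prime hsp hs
      have := orderOf_dvd_of_pow_eq_one h2
      rw [h3] at this
      exact absurd (Nat.le_of_dvd (Nat.pos_of_ne_zero hi0) this) (not_le.2 (Finset.mem_range.1 hi))
    · rw [← pow_mul, mul_comm, pow_mul, ← hx, pow_orderOf_eq_one, one_pow]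
  · intro h0
    exact absurd (Finset.mem_range.2 hp.pos) h0

/-- The relations. -/
def rels (n m r : ℕ) : Set (FreeGroup (Fin 2)) :=
  {FreeGroup.of (0 : Fin 2) ^ n, FreeGroup.of (1 : Fin 2) ^ m,
    (FreeGroup.of (0 : Fin 2))⁻¹ * FreeGroup.of 1 * FreeGroup.of 0 * (FreeGroup.of (1 : Fin 2) ^ r)⁻¹}

theorem card_presented_le (n m r : ℕ) (hn : 0 < n) (hm : 0 < m) :
    Finite (PresentedGroup (rels n m r)) ∧ Nat.card (PresentedGroup (rels n m r)) ≤ n * m := by
  set X : PresentedGroup (rels n m r) := PresentedGroup.of 0 with hXd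
  set Y : PresentedGroup (rels n m r) := PresentedGroup.of 1 with hYd
  have hX : X ^ n = 1 := by
    rw [hXd, PresentedGroup.of, ← map_pow]
    exact PresentedGroup.mk_eq_one_iff.2 (Subgroup.subset_normalClosure (Or.inl rfl))
  have hY : Y ^ m = 1 := by
    rw [hYd, PresentedGroup.of, ← map_pow]
    exact PresentedGroup.mk_eq_one_iff.2 (Subgroup.subset_normalClosure (Or.inr (Or.inl rfl)))
  have hXY : X⁻¹ * Y * X = Y ^ r := by
    have h : PresentedGroup.mk (rels n m r) ((FreeGroup.of (0 : Fin 2))⁻¹ * FreeGroup.of 1 * FreeGroup.of 0 *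
        (FreeGroup.of (1 : Fin 2) ^ r)⁻¹) = 1 :=
      PresentedGroup.mk_eq_one_iff.2 (Subgroup.subset_normalClosure (Or.inr (Or.inr rfl)))
    simp only [map_mul, map_inv, map_pow, mul_inv_eq_one] at h
    exact h
  have hpush : ∀ k, Y ^ k * X = X * Y ^ (r * k) := fun k => by
    rw [pow_mul, ← hXY]
    conv_rhs => rw [← inv_inv X, inv_inv X⁻¹, conj_pow]
    group
  let f : Fin n × Fin m → PresentedGroup (rels n m r) := fun z => X ^ (z.1 : ℕ) * Y ^ (z.2 : ℕ)
  have hmem : ∀ i j : ℕ, X ^ i * Y ^ j ∈ Set.range f := fun i j =>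
    ⟨(⟨i % n, Nat.mod_lt _ hn⟩, ⟨j % m, Nat.mod_lt _ hm⟩), by
      simp only [f]
      rw [← pow_eq_pow_mod i hX, ← pow_eq_pow_mod j hY]⟩
  have hmulX : ∀ z ∈ Set.range f, ∀ k : ℕ, z * X ^ k ∈ Set.range f := by
    intro z hz k
    induction k with
    | zero => simpa using hz
    | succ k ih =>
      obtain ⟨⟨i, j⟩, he⟩ := ih
      rw [pow_succ, ← mul_assoc, ← he]
      simp only [f]
      rw [mul_assoc, hpush, ← mul_assoc, ← pow_succ]
      exact hmem _ _
  have hmulY : ∀ z ∈ Set.range f, ∀ k : ℕ, z * Y ^ k ∈ Set.range f := by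
    rintro _ ⟨⟨i, j⟩, rfl⟩ k
    simp only [f]
    rw [mul_assoc, ← pow_add]
    exact hmem _ _
  have hsurj : Function.Surjective f := fun g => by
    have hg : g ∈ Subgroup.closure (Set.range (PresentedGroup.of : Fin 2 → PresentedGroup (rels n m r))) := by
      rw [PresentedGroup.closure_range_of]; trivial
    refine Subgroup.closure_induction_right (p := fun z _ => z ∈ Set.range f) ?_ ?_ ?_ hg
    · simpa using hmem 0 0
    · rintro z _ _ ⟨t, rfl⟩ ih
      fin_cases t
      · simpa using hmulX z ih 1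
      · simpa using hmulY z ih 1
    · rintro z _ _ ⟨t, rfl⟩ ih
      fin_cases t
      · have h1 : X⁻¹ = X ^ (n - 1) := inv_eq_of_mul_eq_one_right (by rw [← pow_succ', Nat.sub_add_cancel hn, hX])
        change z * X⁻¹ ∈ _
        rw [h1]
        exact hmulX z ih _
      · have h1 : Y⁻¹ = Y ^ (m - 1) := inv_eq_of_mul_eq_one_right (by rw [← pow_succ', Nat.sub_add_cancel hm, hY])
        change z * Y⁻¹ ∈ _
        rw [h1]
        exact hmulY z ih _
  refine ⟨Finite.of_surjective f hsurj, ?_⟩
  have := Nat.card_le_card_of_surjective f hsurj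
  simpa using this

theorem dvd_div_radical {o n : ℕ} (hn : n ≠ 0) (ho : o ∣ n) (h : ∀ p ∈ n.primeFactors, o ∣ n / p) :
    o ∣ n / ∏ p ∈ n.primeFactors, p := by
  have ho0 : o ≠ 0 := fun e => hn (by simpa [e] using ho)
  have hr0 : ∏ p ∈ n.primeFactors, p ≠ 0 :=
    Finset.prod_ne_zero_iff.2 fun p hp => (Nat.prime_of_mem_primeFactors hp).ne_zero
  rw [Nat.dvd_div_iff_mul_dvd (Nat.prod_primeFactors_dvd n), ← Nat.factorization_le_iff_dvd (mul_ne_zero hr0 ho0) hn]
  intro q
  rw [Nat.factorization_mul hr0 ho0, Finsupp.add_apply, Nat.factorization_prod_apply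
    (fun p hp => (Nat.prime_of_mem_primeFactors hp).ne_zero)]
  by_cases hq : q ∈ n.primeFactors
  · rw [Finset.sum_eq_single q (fun b hb hbq => by
        rw [(Nat.prime_of_mem_primeFactors hb).factorization, Finsupp.single_apply, if_neg hbq])
      (fun h' => absurd hq h'), (Nat.prime_of_mem_primeFactors hq).factorization_self]
    have h1 : q * o ∣ n := (Nat.dvd_div_iff_mul_dvd (Nat.dvd_of_mem_primeFactors hq)).1 (h q hq)
    have h2 := (Nat.factorization_le_iff_dvd (mul_ne_zero (Nat.prime_of_mem_primeFactors hq).ne_zero ho0) hn).2 h1 q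
    rw [Nat.factorization_mul (Nat.prime_of_mem_primeFactors hq).ne_zero ho0, Finsupp.add_apply,
      (Nat.prime_of_mem_primeFactors hq).factorization_self] at h2
    exact h2
  · rw [Finset.sum_eq_zero fun b hb => by
      rw [(Nat.prime_of_mem_primeFactors hb).factorization, Finsupp.single_apply, if_neg]
      rintro rfl
      exact hq hb, zero_add]
    exact (Nat.factorization_le_iff_dvd ho0 hn).2 ho q

/-- The presentation of a fixed-point-free group with cyclic Sylow subgroups. -/
theorem exists_presentation [Finite G] [IsZGroup G] {R : Type v} [Ring R] [Algebra ℚ R] [Nontrivial R]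
    {φ : G →* R} (hφ : IsFpf φ) :
    ∃ n m r : ℕ, 0 < n ∧ 0 < m ∧ Nat.Coprime (r - 1) m ∧ Nat.Coprime n m ∧ 1 ≤ r ∧
      r ^ (n / ∏ p ∈ n.primeFactors, p) % m = 1 % m ∧ Nonempty (G ≃* PresentedGroup (rels n m r)) := by
  classical
  obtain ⟨C, hC⟩ : ∃ C : Subgroup G, C = commutator G := ⟨_, rfl⟩
  have hCn : C.Normal := hC ▸ inferInstance
  haveI := hCn
  have hCcyc : IsCyclic C := hC ▸ IsZGroup.isCyclic_commutator G
  have hcopC : (Nat.card C).Coprime C.index := hC ▸ IsZGroup.coprime_commutator_index G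
  obtain ⟨K, hK⟩ := Subgroup.exists_right_complement'_of_coprime hcopC
  have hKcyc : IsCyclic K := by
    subst hC
    haveI : IsCyclic (Abelianization G) := IsZGroup.isCyclic_abelianization
    exact isCyclic_of_surjective (G' := Abelianization G) (hK.symm.QuotientMulEquiv : G ⧸ commutator G ≃* K)
      hK.symm.QuotientMulEquiv.surjective
  obtain ⟨a', ha'⟩ := hCcyc.exists_generator
  obtain ⟨b', hb'⟩ := hKcyc.exists_generator
  set a : G := a'.1 with had
  set b : G := b'.1 with hbd
  have hCa : C = Subgroup.zpowers a := le_antisymm (fun z hz => by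
      obtain ⟨k, hk⟩ := Subgroup.mem_zpowers_iff.1 (ha' ⟨z, hz⟩)
      exact ⟨k, congrArg Subtype.val hk⟩) (Subgroup.zpowers_le.2 a'.2)
  have hKb : K = Subgroup.zpowers b := le_antisymm (fun z hz => by
      obtain ⟨k, hk⟩ := Subgroup.mem_zpowers_iff.1 (hb' ⟨z, hz⟩)
      exact ⟨k, congrArg Subtype.val hk⟩) (Subgroup.zpowers_le.2 b'.2)
  set m := orderOf a with hmd
  set n := orderOf b with hnd
  have hm0 : 0 < m := orderOf_pos a
  have hn0 : 0 < n := orderOf_pos b
  have hcard : Nat.card G = n * m := by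
    rw [← hK.card_mul, hCa, hKb, Nat.card_zpowers, Nat.card_zpowers, mul_comm]
  have hcop : Nat.Coprime n m := by
    have h := hcopC
    rw [hK.symm.index_eq_card, hCa, hKb, Nat.card_zpowers, Nat.card_zpowers] at h
    exact h.symm
  have hgen : Subgroup.closure {b, a} = ⊤ := by
    have h := hK.sup_eq_top
    rw [hCa, hKb] at h
    refine top_le_iff.1 (h ▸ sup_le ?_ ?_) <;>
      exact Subgroup.zpowers_le.2 (Subgroup.subset_closure (by simp))
  haveI : C.Normal := inferInstance
  obtain ⟨k, hk⟩ : ∃ k : ℕ, b⁻¹ * a * b = a ^ k := by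
    have h : b⁻¹ * a * b ∈ Subgroup.zpowers a := by
      rw [← hCa]
      have := Subgroup.Normal.conj_mem (inferInstance : C.Normal) a a'.2 b⁻¹
      rwa [inv_inv] at this
    rw [mem_zpowers_iff_mem_range_orderOf, Finset.mem_image] at h
    obtain ⟨k, -, hk⟩ := h
    exact ⟨k, hk.symm⟩
  set r := k + m with hrd
  have hr : b⁻¹ * a * b = a ^ r := by rw [hk, hrd, pow_add, hmd, pow_orderOf_eq_one, mul_one]
  have hr1 : 1 ≤ r := by omega
  have hcopr : Nat.Coprime (r - 1) m := by
    set D := Subgroup.zpowers (a ^ (r - 1)) with hD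
    have hDC : D ≤ C := Subgroup.zpowers_le.2 (pow_mem a'.2 _)
    haveI : D.Normal := by
      refine ⟨fun z hz g => ?_⟩
      obtain ⟨t, rfl⟩ := Subgroup.mem_zpowers_iff.1 hz
      have hg : g * a * g⁻¹ ∈ Subgroup.zpowers a := hCa ▸ Subgroup.Normal.conj_mem inferInstance a a'.2 g
      obtain ⟨u, hu⟩ := Subgroup.mem_zpowers_iff.1 hg
      rw [← conj_zpow, ← conj_pow, ← hu, ← zpow_natCast, zpow_comm a u, zpow_natCast, ← zpow_mul,
        mul_comm, zpow_mul]
      exact zpow_mem (zpow_mem (Subgroup.mem_zpowers _) _) _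
    have hab : Commute (QuotientGroup.mk' D b) (QuotientGroup.mk' D a) := by
      have h1 : a ^ r = a * a ^ (r - 1) := by rw [← pow_succ', Nat.sub_add_cancel hr1]
      have h2 : QuotientGroup.mk' D (a ^ (r - 1)) = 1 :=
        (QuotientGroup.eq_one_iff _).2 (Subgroup.mem_zpowers _)
      have h3 := congrArg (QuotientGroup.mk' D) hr
      rw [h1, map_mul _ a, h2, mul_one, map_mul, map_mul, map_inv, mul_assoc, inv_mul_eq_iff_eq_mul] at h3
      exact h3.symm
    have hcomm : C ≤ D := by
      have hcl : Subgroup.closure (QuotientGroup.mk' D '' {b, a}) = ⊤ := by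
        rw [← MonoidHom.map_closure, hgen, Subgroup.map_top_of_surjective _ (QuotientGroup.mk'_surjective D)]
      have hle : (⊤ : Subgroup (G ⧸ D)) ≤ Subgroup.center (G ⧸ D) := by
        rw [← hcl, Subgroup.closure_le, Set.image_pair]
        have key : ∀ e, Commute e (QuotientGroup.mk' D b) → Commute e (QuotientGroup.mk' D a) →
            e ∈ Subgroup.center (G ⧸ D) := fun e h1 h2 => Subgroup.mem_center_iff.2 fun g => by
          have hg : g ∈ Subgroup.centralizer ({e} : Set (G ⧸ D)) := by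
            have h : Subgroup.closure (QuotientGroup.mk' D '' {b, a}) ≤ Subgroup.centralizer ({e} : Set (G ⧸ D)) := by
              rw [Subgroup.closure_le, Set.image_pair]
              rintro _ (rfl | rfl)
              exacts [Subgroup.mem_centralizer_singleton_iff.2 h1.symm.eq,
                Subgroup.mem_centralizer_singleton_iff.2 h2.symm.eq]
            exact h (hcl ▸ Subgroup.mem_top g)
          exact Subgroup.mem_centralizer_singleton_iff.1 hg
        rintro _ (rfl | rfl)
        exacts [key _ (Commute.refl _) hab, key _ hab.symm (Commute.refl _)]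
      rw [hC, commutator_def, Subgroup.commutator_le]
      intro g _ h _
      rw [← QuotientGroup.eq_one_iff, ← QuotientGroup.mk'_apply, map_commutatorElement,
        commutatorElement_eq_one_iff_mul_comm]
      exact (Subgroup.mem_center_iff.1 (hle (Subgroup.mem_top _)) _).symm
    have ho : orderOf (a ^ (r - 1)) = m := by
      rw [← Nat.card_zpowers, ← hD, le_antisymm hDC hcomm, hCa, Nat.card_zpowers]
    rw [orderOf_pow, ← hmd] at ho
    have hg := Nat.gcd_dvd_left m (r - 1)
    rw [Nat.Coprime, Nat.gcd_comm]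
    rcases Nat.div_eq_self.1 ho with h | h
    · omega
    · exact h
  have hpr : r ^ (n / ∏ p ∈ n.primeFactors, p) % m = 1 % m := by
    set γ : MulAut C := MulAut.conjNormal b⁻¹ with hγ
    have hval : ∀ i : ℕ, ((γ ^ i) a' : G) = a ^ r ^ i := fun i => by
      rw [hγ, ← map_pow, MulAut.conjNormal_apply, inv_pow, inv_inv, ← conj_pow_eq hr i]
    have hiff : ∀ i : ℕ, orderOf γ ∣ i ↔ r ^ i % m = 1 % m := fun i => by
      rw [orderOf_dvd_iff_pow_eq_one]
      constructor
      · intro h
        have h1 : a ^ r ^ i = a ^ 1 := by rw [← hval, h, pow_one]; rfl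
        exact pow_eq_pow_iff_modEq.1 h1
      · intro h
        refine MulEquiv.ext fun z => Subtype.ext ?_
        obtain ⟨t, rfl⟩ := Subgroup.mem_zpowers_iff.1 (ha' z)
        have h1 : (γ ^ i) a' = a' :=
          Subtype.ext (by rw [hval, pow_eq_pow_iff_modEq.2 (show r ^ i ≡ 1 [MOD orderOf a] from h), pow_one])
        rw [map_zpow, h1]
        rfl
    rw [← hiff]
    refine dvd_div_radical hn0.ne' ?_ fun p hp => ?_
    · refine (hiff n).2 ?_
      have h1 : a ^ r ^ n = a ^ 1 := by
        rw [← conj_pow_eq hr n, hnd, pow_orderOf_eq_one, inv_one, one_mul, mul_one, pow_one]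
      exact pow_eq_pow_iff_modEq.1 h1
    · refine (hiff _).2 ?_
      have hpp := Nat.prime_of_mem_primeFactors hp
      have hpn := Nat.dvd_of_mem_primeFactors hp
      set y := b ^ (n / p) with hyd
      set s := r ^ (n / p) with hsd
      have hy : orderOf y = p := orderOf_pow_orderOf_div hn0.ne' hpn
      have hys : y⁻¹ * a * y = a ^ s := conj_pow_eq hr _
      have hp_m : Nat.Coprime p m := hcop.coprime_dvd_left hpn
      have hsq : ∀ q, q.Prime → q ∣ m → (s : ZMod q) = 1 := fun q hq hqm => by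
        have hxq : orderOf (a ^ (m / q)) = q := orderOf_pow_orderOf_div hm0.ne' hqm
        have hpq : p ≠ q := fun e => by
          subst e
          exact hpp.one_lt.ne' (Nat.eq_one_of_dvd_coprimes hp_m dvd_rfl hqm)
        have h2 : y⁻¹ * a ^ (m / q) * y = (a ^ (m / q)) ^ s := by
          conv_lhs => rw [← inv_inv y, inv_inv y⁻¹, ← conj_pow]
          rw [inv_inv, hys, ← pow_mul, ← pow_mul, mul_comm]
        have hc := commute_of_prime_orders hφ hpp hq hpq hxq hy h2
        rw [mul_assoc, hc.eq, inv_mul_cancel_left] at h2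
        have h3 : (a ^ (m / q)) ^ s = (a ^ (m / q)) ^ 1 := by rw [pow_one, ← h2]
        rw [pow_eq_pow_iff_modEq, hxq] at h3
        exact_mod_cast (ZMod.natCast_eq_natCast_iff _ _ _).2 h3
      have hsp : (s : ZMod m) ^ p = 1 := by
        have h1 := conj_pow_eq hys p
        rw [← hy, pow_orderOf_eq_one, inv_one, one_mul, mul_one, hy] at h1
        have h2 : a ^ 1 = a ^ s ^ p := by rw [pow_one]; exact h1
        rw [pow_eq_pow_iff_modEq, ← hmd] at h2
        exact_mod_cast ((ZMod.natCast_eq_natCast_iff _ _ _).2 h2).symm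
      have hu : Nat.Coprime (∑ l ∈ Finset.range p, s ^ l) m := Nat.coprime_of_dvd fun q hq h1 h2 => by
        have h3 := (ZMod.natCast_eq_zero_iff _ q).2 h1
        simp only [Nat.cast_sum, Nat.cast_pow, hsq q hq h2, one_pow, Finset.sum_const, Finset.card_range,
          nsmul_eq_mul, mul_one] at h3
        have h4 := (ZMod.natCast_eq_zero_iff _ q).1 h3
        exact hq.one_lt.ne' (Nat.eq_one_of_dvd_coprimes hp_m h4 h2)
      have hgs : ((∑ l ∈ Finset.range p, s ^ l : ℕ) : ZMod m) * ((s : ZMod m) - 1) = 0 := by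
        rw [Nat.cast_sum]
        simp only [Nat.cast_pow]
        rw [geom_sum_mul, hsp, sub_self]
      have h1 : ((s : ℕ) : ZMod m) = ((1 : ℕ) : ZMod m) := by
        rw [Nat.cast_one, ← sub_eq_zero]
        exact (((ZMod.isUnit_iff_coprime _ _).2 hu).mul_right_eq_zero).1 hgs
      exact (ZMod.natCast_eq_natCast_iff _ _ _).1 h1
  refine ⟨n, m, r, hn0, hm0, hcopr, hcop, hr1, hpr, ?_⟩
  have hrel : ∀ w ∈ rels n m r, FreeGroup.lift ![b, a] w = 1 := by
    rintro w (rfl | rfl | rfl)
    · simp [hnd, pow_orderOf_eq_one]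
    · simp [hmd, pow_orderOf_eq_one]
    · simp [hr]
  set f := PresentedGroup.toGroup (f := ![b, a]) hrel with hf
  have hs : Function.Surjective f := by
    rw [← MonoidHom.range_eq_top, ← top_le_iff, ← hgen, Subgroup.closure_le]
    rintro _ (rfl | rfl)
    · exact ⟨PresentedGroup.of 0, by simp [hf]⟩
    · exact ⟨PresentedGroup.of 1, by simp [hf]⟩
  obtain ⟨hfin, hle⟩ := card_presented_le n m r hn0 hm0
  have hb : Function.Bijective f := (Nat.bijective_iff_surjective_and_card f).2
    ⟨hs, le_antisymm (hle.trans hcard.ge) (Nat.card_le_card_of_surjective f hs)⟩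
  exact ⟨(MulEquiv.ofBijective f hb).symm⟩

end Cfsg.Lib.ZPres
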